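import Mathlib

/-!
The symmetric group of degree four as needed for groups with a `S₄ ≀ 2` local subgroup: the Sylow
2-subgroup `dih`, its two four groups `four` (normal) and `kay`, and finite facts about them.
-/

set_option autoImplicit false
set_option maxRecDepth 100000
set_option synthInstance.maxSize 1000
set_option synthInstance.maxHeartbeats 200000

namespace Cfsg.Agent.S4Wr

abbrev P4 := Equiv.Perm (Fin 4)

/-- `(01)(23)`, the central involution of `dih`. -/
def z : P4 := Equiv.swap 0 1 * Equiv.swap 2 3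

/-- `(01)`. -/
def k : P4 := Equiv.swap 0 1

/-- `(02)(13)`. -/
def v : P4 := Equiv.swap 0 2 * Equiv.swap 1 3

/-- an element of order three. -/
def r : P4 := Equiv.swap 0 1 * Equiv.swap 1 2

/-- The dihedral group `C(z)`. -/
def dih : Subgroup P4 where
  carrier := {x | x * z = z * x}
  one_mem' := by simp
  mul_mem' {a b} (ha : a * z = z * a) (hb : b * z = z * b) := by
    show a * b * z = z * (a * b)
    rw [mul_assoc, hb, ← mul_assoc, ha, mul_assoc]
  inv_mem' {a} (ha : a * z = z * a) := by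
    show a⁻¹ * z = z * a⁻¹
    rw [inv_mul_eq_iff_eq_mul, ← mul_assoc, eq_mul_inv_iff_mul_eq, ha]

/-- The normal four group. -/
def four : Subgroup P4 where
  carrier := {x | x = 1 ∨ x = z ∨ x = v ∨ x = z * v}
  one_mem' := Or.inl rfl
  mul_mem' {a b} (ha : a = 1 ∨ a = z ∨ a = v ∨ a = z * v) (hb : b = 1 ∨ b = z ∨ b = v ∨ b = z * v) := by
    rcases ha with rfl | rfl | rfl | rfl <;> rcases hb with rfl | rfl | rfl | rfl <;> decide
  inv_mem' {a} (ha : a = 1 ∨ a = z ∨ a = v ∨ a = z * v) := by
    rcases ha with rfl | rfl | rfl | rfl <;> decide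

/-- The four group `⟨(01), (23)⟩`. -/
def kay : Subgroup P4 where
  carrier := {x | x = 1 ∨ x = z ∨ x = k ∨ x = z * k}
  one_mem' := Or.inl rfl
  mul_mem' {a b} (ha : a = 1 ∨ a = z ∨ a = k ∨ a = z * k) (hb : b = 1 ∨ b = z ∨ b = k ∨ b = z * k) := by
    rcases ha with rfl | rfl | rfl | rfl <;> rcases hb with rfl | rfl | rfl | rfl <;> decide
  inv_mem' {a} (ha : a = 1 ∨ a = z ∨ a = k ∨ a = z * k) := by
    rcases ha with rfl | rfl | rfl | rfl <;> decide

theorem mem_dih {x : P4} : x ∈ dih ↔ x * z = z * x := Iff.rfl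

theorem mem_four {x : P4} : x ∈ four ↔ x = 1 ∨ x = z ∨ x = v ∨ x = z * v := Iff.rfl

theorem mem_kay {x : P4} : x ∈ kay ↔ x = 1 ∨ x = z ∨ x = k ∨ x = z * k := Iff.rfl

instance : DecidablePred (· ∈ dih) := fun _ => decidable_of_iff _ mem_dih.symm
instance : DecidablePred (· ∈ four) := fun _ => decidable_of_iff _ mem_four.symm
instance : DecidablePred (· ∈ kay) := fun _ => decidable_of_iff _ mem_kay.symm

theorem z_mem_dih : z ∈ dih := rfl
theorem z_mem_four : z ∈ four := Or.inr (Or.inl rfl)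
theorem v_mem_four : v ∈ four := Or.inr (Or.inr (Or.inl rfl))
theorem z_mem_kay : z ∈ kay := Or.inr (Or.inl rfl)
theorem k_mem_kay : k ∈ kay := Or.inr (Or.inr (Or.inl rfl))
theorem k_mem_dih : k ∈ dih := by rw [mem_dih]; decide
theorem v_mem_dih : v ∈ dih := by rw [mem_dih]; decide

theorem four_le_dih : four ≤ dih := by
  intro x hx
  rcases hx with rfl | rfl | rfl | rfl <;> exact mem_dih.2 (by decide)

theorem kay_le_dih : kay ≤ dih := by
  intro x hx
  rcases hx with rfl | rfl | rfl | rfl <;> exact mem_dih.2 (by decide)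

theorem card_dih : Nat.card dih = 8 := by rw [Nat.card_eq_fintype_card]; decide +kernel
theorem card_four : Nat.card four = 4 := by rw [Nat.card_eq_fintype_card]; decide +kernel
theorem card_kay : Nat.card kay = 4 := by rw [Nat.card_eq_fintype_card]; decide +kernel

theorem four_conj : ∀ a x : P4, x ∈ four → a * x * a⁻¹ ∈ four := by decide +kernel

theorem kay_conj : ∀ a x : P4, a ∈ dih → x ∈ kay → a * x * a⁻¹ ∈ kay := by decide +kernel

/-- A subgroup containing a conjugate of `dih` normalising `k` is contained in it. -/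
theorem mem_dih_of_conj : ∀ a : P4, a * k * a⁻¹ ∈ dih → a ∈ dih := by decide +kernel

theorem mem_kay_of_comm : ∀ x : P4, x * k = k * x → x ∈ kay := by decide +kernel

theorem mem_four_of_comm : ∀ x : P4, x ∈ dih → x * v = v * x → x ∈ four := by decide +kernel

/-- Commuting involutions of `dih` lie in a common one of the two four groups. -/
theorem comm_cases : ∀ x y : P4, x ∈ dih → y ∈ dih → x * x = 1 → y * y = 1 → x * y = y * x →
    (x ∈ four ∧ y ∈ four) ∨ (x ∈ kay ∧ y ∈ kay) := by decide +kernel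

theorem sq_four : ∀ x : P4, x ∈ four → x * x = 1 := by decide +kernel
theorem sq_kay : ∀ x : P4, x ∈ kay → x * x = 1 := by decide +kernel
theorem comm_four : ∀ x y : P4, x ∈ four → y ∈ four → x * y = y * x := by decide +kernel
theorem comm_kay : ∀ x y : P4, x ∈ kay → y ∈ kay → x * y = y * x := by decide +kernel

theorem sq_dih : ∀ x : P4, x ∈ dih → x * x = 1 ∨ x * x = z := by decide +kernel

theorem invol_dih : ∀ x : P4, x ∈ dih → x * x = 1 → x ∈ four ∨ x ∈ kay := by decide +kernel

theorem four_class : ∀ x : P4, x ∈ four → x ≠ 1 → ∃ a : P4, a * z * a⁻¹ = x := by decide +kernel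

theorem invol_class : ∀ x : P4, x * x = 1 →
    ∃ a : P4, a * x * a⁻¹ = 1 ∨ a * x * a⁻¹ = z ∨ a * x * a⁻¹ = k := by decide +kernel

theorem exists_dih_conj : ∀ x : P4, x ∈ dih → x ≠ 1 → x ≠ z →
    ∃ t : P4, t ∈ dih ∧ t * x * t⁻¹ = x * z := by decide +kernel

theorem four_inter_kay : ∀ x : P4, x ∈ four → x ∈ kay → x = 1 ∨ x = z := by decide +kernel

theorem conj_r_four : ∀ x : P4, x ∈ four →
    x * (r * x * r⁻¹) * (r * r * x * (r * r)⁻¹) = 1 := by decide +kernel

theorem four_fixed_r : ∀ x : P4, x ∈ four → r * x * r⁻¹ = x → x = 1 := by decide +kernel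

/-- No four group-centralising element of order three. -/
theorem comm_four_class : ∀ x : P4, x ∈ dih → x ≠ 1 → x ∉ four → x ∉ kay → x * x = z := by
  decide +kernel

theorem dih_split : ∀ x : P4, x ∈ dih →
    (x ∈ four ∧ True) ∨ (x ∈ kay ∧ True) ∨ (x * k⁻¹ ∈ four ∧ True) ∨ (x * k⁻¹ ∈ four ∧ True) := by
  decide +kernel

end Cfsg.Agent.S4Wr
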