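import Mathlib
import Cfsg.Agent.Lib.S4Wr.Finite
import Cfsg.Prelude.Def_QuasithinSetup

/-!
A subgroup isomorphic to `S₄ ≀ 2`, given by an embedding of `S₄ × S₄` and an involution interchanging the
factors.
-/

set_option autoImplicit false
set_option linter.unusedSectionVars false

namespace Cfsg.Agent.S4Wr

open Subgroup

variable {G : Type*} [Group G]

/-- An embedded `S₄ × S₄` with an involution outside it interchanging the factors. -/
structure Emb (G : Type*) [Group G] where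
  ι : P4 × P4 →* G
  inj : Function.Injective ι
  s : G
  s_sq : s * s = 1
  s_not : s ∉ ι.range
  s_swap : ∀ p : P4 × P4, s * ι p * s = ι p.swap

namespace Emb

variable (e : Emb G)

theorem s_inv : e.s⁻¹ = e.s := inv_eq_of_mul_eq_one_right e.s_sq

theorem s_conj (p : P4 × P4) : e.s * e.ι p * e.s⁻¹ = e.ι p.swap := by
  rw [e.s_inv]; exact e.s_swap p

theorem s_mul (p : P4 × P4) : e.s * e.ι p = e.ι p.swap * e.s := by
  rw [← e.s_swap p, mul_assoc, mul_assoc, e.s_sq, mul_one]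

theorem mul_s_eq (p : P4 × P4) : e.ι p * e.s = e.s * e.ι p.swap := by
  rw [e.s_mul, Prod.swap_swap]

theorem s_ne_one : e.s ≠ 1 := fun h => e.s_not (h ▸ one_mem _)

theorem ι_mul_s_not (p q : P4 × P4) : e.ι p * e.s ≠ e.ι q := fun h =>
  e.s_not ⟨p⁻¹ * q, by rw [map_mul, map_inv, ← h, inv_mul_cancel_left]⟩

theorem mul_s_inj {p q : P4 × P4} (h : e.ι p * e.s = e.ι q * e.s) : p = q :=
  e.inj (mul_right_cancel h)

/-- Conjugation inside the base group. -/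
theorem conj_ι (p q : P4 × P4) : e.ι p * e.ι q * (e.ι p)⁻¹ = e.ι (p * q * p⁻¹) := by
  rw [map_mul, map_mul, map_inv]

/-- The extension of a swap-invariant subgroup of `S₄ × S₄` by the involution. -/
def ext (S : Subgroup (P4 × P4)) (hS : ∀ p ∈ S, p.swap ∈ S) : Subgroup G where
  carrier := {g | ∃ p ∈ S, g = e.ι p ∨ g = e.ι p * e.s}
  one_mem' := ⟨1, S.one_mem, Or.inl (map_one _).symm⟩
  mul_mem' {a b} ha hb := by
    obtain ⟨p, hp, rfl | rfl⟩ := ha <;> obtain ⟨q, hq, rfl | rfl⟩ := hb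
    · exact ⟨p * q, S.mul_mem hp hq, Or.inl (map_mul _ _ _).symm⟩
    · exact ⟨p * q, S.mul_mem hp hq, Or.inr (by rw [map_mul, mul_assoc])⟩
    · exact ⟨p * q.swap, S.mul_mem hp (hS q hq), Or.inr (by
        rw [map_mul, mul_assoc, e.s_mul, mul_assoc])⟩
    · exact ⟨p * q.swap, S.mul_mem hp (hS q hq), Or.inl (by
        rw [map_mul, mul_assoc, ← mul_assoc e.s, e.s_mul, mul_assoc, e.s_sq, mul_one])⟩
  inv_mem' {a} ha := by
    obtain ⟨p, hp, rfl | rfl⟩ := ha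
    · exact ⟨p⁻¹, S.inv_mem hp, Or.inl (map_inv _ _).symm⟩
    · exact ⟨p⁻¹.swap, hS _ (S.inv_mem hp), Or.inr (by
        rw [mul_inv_rev, ← map_inv, e.s_inv, e.s_mul])⟩

theorem mem_ext {S : Subgroup (P4 × P4)} {hS : ∀ p ∈ S, p.swap ∈ S} {g : G} :
    g ∈ e.ext S hS ↔ ∃ p ∈ S, g = e.ι p ∨ g = e.ι p * e.s := Iff.rfl

theorem ι_mem_ext {S : Subgroup (P4 × P4)} {hS : ∀ p ∈ S, p.swap ∈ S} {p : P4 × P4} :
    e.ι p ∈ e.ext S hS ↔ p ∈ S := by
  refine ⟨?_, fun h => ⟨p, h, Or.inl rfl⟩⟩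
  rintro ⟨q, hq, h | h⟩
  · exact e.inj h ▸ hq
  · exact (e.ι_mul_s_not q p h.symm).elim

theorem ι_s_mem_ext {S : Subgroup (P4 × P4)} {hS : ∀ p ∈ S, p.swap ∈ S} {p : P4 × P4} :
    e.ι p * e.s ∈ e.ext S hS ↔ p ∈ S := by
  refine ⟨?_, fun h => ⟨p, h, Or.inr rfl⟩⟩
  rintro ⟨q, hq, h | h⟩
  · exact (e.ι_mul_s_not p q h).elim
  · exact e.mul_s_inj h ▸ hq

theorem s_mem_ext {S : Subgroup (P4 × P4)} {hS : ∀ p ∈ S, p.swap ∈ S} : e.s ∈ e.ext S hS :=
  ⟨1, S.one_mem, Or.inr (by rw [map_one, one_mul])⟩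

theorem map_le_ext (S : Subgroup (P4 × P4)) (hS : ∀ p ∈ S, p.swap ∈ S) : S.map e.ι ≤ e.ext S hS := by
  rintro _ ⟨p, hp, rfl⟩
  exact e.ι_mem_ext.2 hp

theorem mem_map {S : Subgroup (P4 × P4)} {p : P4 × P4} : e.ι p ∈ S.map e.ι ↔ p ∈ S :=
  Subgroup.mem_map_iff_mem e.inj

theorem card_map (S : Subgroup (P4 × P4)) : Nat.card (S.map e.ι) = Nat.card S :=
  card_map_of_injective e.inj

/-- The extension is the disjoint union of two cosets. -/
theorem card_ext (S : Subgroup (P4 × P4)) (hS : ∀ p ∈ S, p.swap ∈ S) :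
    Nat.card (e.ext S hS) = 2 * Nat.card S := by
  let f : S ⊕ S → e.ext S hS := fun x => match x with
    | Sum.inl p => ⟨e.ι p, e.ι_mem_ext.2 p.2⟩
    | Sum.inr p => ⟨e.ι p * e.s, e.ι_s_mem_ext.2 p.2⟩
  have hf : Function.Bijective f := by
    refine ⟨?_, ?_⟩
    · rintro (p | p) (q | q) h <;> simp only [f, Subtype.mk.injEq] at h
      · exact congrArg _ (Subtype.ext (e.inj h))
      · exact (e.ι_mul_s_not _ _ h.symm).elim
      · exact (e.ι_mul_s_not _ _ h).elim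
      · exact congrArg _ (Subtype.ext (e.mul_s_inj h))
    · rintro ⟨g, p, hp, rfl | rfl⟩
      · exact ⟨Sum.inl ⟨p, hp⟩, rfl⟩
      · exact ⟨Sum.inr ⟨p, hp⟩, rfl⟩
  rw [← Nat.card_eq_of_bijective f hf, Nat.card_sum, two_mul]

/-- The base group `D₈ × D₈`. -/
def base : Subgroup G := (dih.prod dih).map e.ι

/-- The product of two subgroups of the factors. -/
def box (X Y : Subgroup P4) : Subgroup G := (X.prod Y).map e.ι

theorem mem_box {X Y : Subgroup P4} {g : G} :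
    g ∈ e.box X Y ↔ ∃ x ∈ X, ∃ y ∈ Y, e.ι (x, y) = g := by
  constructor
  · rintro ⟨⟨x, y⟩, hp, rfl⟩
    exact ⟨x, (mem_prod.1 hp).1, y, (mem_prod.1 hp).2, rfl⟩
  · rintro ⟨x, hx, y, hy, rfl⟩
    exact ⟨(x, y), mem_prod.2 ⟨hx, hy⟩, rfl⟩

theorem ι_mem_box {X Y : Subgroup P4} {x y : P4} :
    e.ι (x, y) ∈ e.box X Y ↔ x ∈ X ∧ y ∈ Y := by
  rw [box, e.mem_map, mem_prod]

theorem card_box (X Y : Subgroup P4) : Nat.card (e.box X Y) = Nat.card X * Nat.card Y := by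
  rw [box, e.card_map, Nat.card_congr (prodEquiv X Y).toEquiv, Nat.card_prod]

theorem box_mono {X X' Y Y' : Subgroup P4} (hX : X ≤ X') (hY : Y ≤ Y') : e.box X Y ≤ e.box X' Y' :=
  Subgroup.map_mono (prod_mono hX hY)

theorem base_eq : e.base = e.box dih dih := rfl

theorem swap_dih : ∀ p ∈ dih.prod dih, p.swap ∈ dih.prod dih := fun _ hp => ⟨hp.2, hp.1⟩

/-- The Sylow 2-subgroup. -/
def syl : Subgroup G := e.ext (dih.prod dih) swap_dih

theorem card_syl : Nat.card e.syl = 128 := by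
  rw [syl, e.card_ext, Nat.card_congr (prodEquiv dih dih).toEquiv, Nat.card_prod, card_dih]

theorem card_base : Nat.card e.base = 64 := by rw [base_eq, e.card_box, card_dih]

theorem base_le_syl : e.base ≤ e.syl := e.map_le_ext _ _

theorem s_mem_syl : e.s ∈ e.syl := e.s_mem_ext

/-- The whole wreath product. -/
def wr : Subgroup G := e.ext ⊤ fun _ _ => mem_top _

theorem ι_mem_wr (p : P4 × P4) : e.ι p ∈ e.wr := e.ι_mem_ext.2 (mem_top _)

theorem mem_wr {g : G} : g ∈ e.wr ↔ ∃ p : P4 × P4, g = e.ι p ∨ g = e.ι p * e.s := by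
  simp [wr, mem_ext]

theorem syl_le_wr : e.syl ≤ e.wr := by
  rintro g ⟨p, -, h⟩
  exact e.mem_wr.2 ⟨p, h⟩

theorem s_mem_wr : e.s ∈ e.wr := e.s_mem_ext

theorem card_wr : Nat.card e.wr = 1152 := by
  rw [wr, e.card_ext, card_top, Nat.card_prod, Nat.card_perm]
  simp [Nat.factorial]

theorem mem_syl_iff {p : P4 × P4} : e.ι p ∈ e.syl ↔ p.1 ∈ dih ∧ p.2 ∈ dih := by
  rw [syl, e.ι_mem_ext]; rfl

theorem mem_syl_iff_s {p : P4 × P4} : e.ι p * e.s ∈ e.syl ↔ p.1 ∈ dih ∧ p.2 ∈ dih := by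
  rw [syl, e.ι_s_mem_ext]; rfl

end Emb

open scoped Pointwise in
/-- A group with a subgroup isomorphic to `S₄ ≀ 2` carries such an embedding with that image. -/
theorem exists_emb (M : Subgroup G) (h : Nonempty (↥M ≃* ↥Cfsg.blockStabilizerS4wr2)) :
    ∃ e : Emb G, e.wr = M := by
  obtain ⟨φ⟩ := h
  let f : P4 × P4 →* Equiv.Perm (Fin 4 ⊕ Fin 4) := Equiv.Perm.sumCongrHom _ _
  let σ : Equiv.Perm (Fin 4 ⊕ Fin 4) := Equiv.sumComm (Fin 4) (Fin 4)
  let L : Set (Fin 4 ⊕ Fin 4) := Set.range Sum.inl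
  let R : Set (Fin 4 ⊕ Fin 4) := Set.range Sum.inr
  have hσσ : σ * σ = 1 := by ext (x | x) <;> rfl
  have hσf : ∀ p, σ * f p * σ = f p.swap := fun p => by ext (x | x) <;> rfl
  have hfL : ∀ p, f p • L = L := by
    intro p
    ext x
    constructor
    · rintro ⟨y, ⟨i, rfl⟩, rfl⟩; exact ⟨p.1 i, rfl⟩
    · rintro ⟨i, rfl⟩; exact ⟨Sum.inl (p.1⁻¹ i), ⟨_, rfl⟩, congrArg Sum.inl (p.1.apply_symm_apply i)⟩
  have hfR : ∀ p, f p • R = R := by
    intro p
    ext x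
    constructor
    · rintro ⟨y, ⟨i, rfl⟩, rfl⟩; exact ⟨p.2 i, rfl⟩
    · rintro ⟨i, rfl⟩; exact ⟨Sum.inr (p.2⁻¹ i), ⟨_, rfl⟩, congrArg Sum.inr (p.2.apply_symm_apply i)⟩
  have hσL : σ • L = R := by
    ext x
    constructor
    · rintro ⟨y, ⟨i, rfl⟩, rfl⟩; exact ⟨i, rfl⟩
    · rintro ⟨i, rfl⟩; exact ⟨Sum.inl i, ⟨_, rfl⟩, rfl⟩
  have hσR : σ • R = L := by
    rw [← hσL, smul_smul, hσσ, one_smul]
  have hfmem : ∀ p, f p ∈ Cfsg.blockStabilizerS4wr2 := by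
    intro p
    change f p • ({L, R} : Set (Set (Fin 4 ⊕ Fin 4))) = {L, R}
    rw [← Set.image_smul, Set.image_pair]
    simp only [hfL, hfR]
  have hσmem : σ ∈ Cfsg.blockStabilizerS4wr2 := by
    change σ • ({L, R} : Set (Set (Fin 4 ⊕ Fin 4))) = {L, R}
    rw [← Set.image_smul, Set.image_pair]
    simp only [hσL, hσR]
    exact Set.pair_comm _ _
  have hsplit : ∀ g ∈ Cfsg.blockStabilizerS4wr2, ∃ p, g = f p ∨ g = f p * σ := by
    intro g hg
    change g • ({L, R} : Set (Set (Fin 4 ⊕ Fin 4))) = {L, R} at hg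
    have hgL : g • L = L ∨ g • L = R := by
      have : g • L ∈ g • ({L, R} : Set (Set (Fin 4 ⊕ Fin 4))) :=
        Set.smul_mem_smul_set (Set.mem_insert L _)
      rw [hg] at this
      simpa using this
    have hrange : ∀ g' : Equiv.Perm (Fin 4 ⊕ Fin 4), g' • L = L → ∃ p, f p = g' := fun g' h =>
      Equiv.Perm.mem_sumCongrHom_range_of_perm_mapsTo_inl fun x hx =>
        (Set.ext_iff.1 h (g' x)).1 ⟨x, hx, rfl⟩
    rcases hgL with h | h
    · obtain ⟨p, hp⟩ := hrange g h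
      exact ⟨p, Or.inl hp.symm⟩
    · obtain ⟨p, hp⟩ := hrange (σ * g) (by rw [mul_smul, h, hσR])
      refine ⟨p.swap, Or.inr ?_⟩
      rw [← hσf, hp, ← mul_assoc, hσσ, one_mul, mul_assoc, hσσ, mul_one]
  have hσnot : ∀ p, f p ≠ σ := fun p h => by
    have h2 := hσL
    rw [← h, hfL] at h2
    have h3 : (Sum.inl 0 : Fin 4 ⊕ Fin 4) ∈ R := h2 ▸ ⟨0, rfl⟩
    obtain ⟨i, hi⟩ := h3
    simp at hi
  let ι : P4 × P4 →* G := M.subtype.comp (φ.symm.toMonoidHom.comp (f.codRestrict _ hfmem))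
  let s : G := (φ.symm ⟨σ, hσmem⟩ : M)
  refine ⟨⟨ι, ?_, s, ?_, ?_, ?_⟩, ?_⟩
  · exact M.subtype_injective.comp (φ.symm.injective.comp fun a b hab =>
      Equiv.Perm.sumCongrHom_injective (congrArg Subtype.val hab))
  · change ((φ.symm ⟨σ, hσmem⟩ : M) : G) * _ = 1
    rw [← Subgroup.coe_mul, ← map_mul]
    simp only [MulMemClass.mk_mul_mk, hσσ]
    exact congrArg Subtype.val φ.symm.map_one
  · rintro ⟨p, hp⟩
    exact hσnot p (congrArg Subtype.val (φ.symm.injective (M.subtype_injective hp)))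
  · intro p
    change ((φ.symm _ : M) : G) * ((φ.symm _ : M) : G) * ((φ.symm _ : M) : G) = _
    rw [← Subgroup.coe_mul, ← Subgroup.coe_mul, ← map_mul, ← map_mul]
    exact congrArg (fun t => ((φ.symm t : M) : G)) (Subtype.ext (hσf p))
  · ext g
    rw [Emb.mem_wr]
    constructor
    · rintro ⟨p, rfl | rfl⟩
      · exact (φ.symm _).2
      · exact M.mul_mem (φ.symm _).2 (φ.symm _).2
    · intro hg
      obtain ⟨p, hp | hp⟩ := hsplit _ (φ ⟨g, hg⟩).2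
      · refine ⟨p, Or.inl ?_⟩
        have : (⟨g, hg⟩ : M) = φ.symm ⟨f p, hfmem p⟩ := by
          rw [← φ.symm_apply_apply ⟨g, hg⟩]; exact congrArg _ (Subtype.ext hp)
        exact congrArg Subtype.val this
      · refine ⟨p, Or.inr ?_⟩
        have : (⟨g, hg⟩ : M) = φ.symm ⟨f p, hfmem p⟩ * φ.symm ⟨σ, hσmem⟩ := by
          rw [← map_mul, ← φ.symm_apply_apply ⟨g, hg⟩]; exact congrArg _ (Subtype.ext hp)
        exact congrArg Subtype.val this

end Cfsg.Agent.S4Wr
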