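import Mathlib
import Cfsg.Agent.Lib.S4Wr.Basic
import Cfsg.Agent.Lib.Transfer.Fusion
import Cfsg.Agent.Lib.Transfer.Frobenius

/-!
The elementary abelian subgroups of order 16 of `D₈ ≀ 2`, and weak closure of the two normal ones, when
`D₈ ≀ 2` is a Sylow 2-subgroup and `S₄ ≀ 2` a maximal 2-local subgroup.
-/

set_option autoImplicit false
set_option linter.unusedSectionVars false

namespace Cfsg.Agent.S4Wr

open Subgroup Cfsg.Agent.Transfer.Fusion

variable {G : Type*} [Group G]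

/-- The configuration to be refuted. -/
structure Ctx (G : Type*) [Group G] where
  e : Emb G
  T : Sylow 2 G
  hT : (T : Subgroup G) = e.syl
  hmax : Cfsg.IsMaximalTwoLocal e.wr
  qt : Cfsg.IsQuasithin G
  ec : Cfsg.IsOfEvenCharacteristic G
  simple : IsSimpleGroup G

namespace Ctx

variable (c : Ctx G)

abbrev ι : P4 × P4 →* G := c.e.ι
abbrev VV : Subgroup G := c.e.box four four
abbrev KK : Subgroup G := c.e.box kay kay
abbrev VK : Subgroup G := c.e.box four kay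
abbrev KV : Subgroup G := c.e.box kay four

/-- Conjugate of a subgroup. -/
abbrev Ad (g : G) (H : Subgroup G) : Subgroup G := H.map (MulAut.conj g).toMonoidHom

theorem mem_Ad {g x : G} {H : Subgroup G} : x ∈ Ad g H ↔ g⁻¹ * x * g ∈ H := mem_map_conj

theorem isPGroup_syl : IsPGroup 2 c.e.syl := c.hT ▸ c.T.2

theorem isPGroup_base : IsPGroup 2 c.e.base := c.isPGroup_syl.to_le c.e.base_le_syl

theorem Ad_Ad (a b : G) (H : Subgroup G) : Ad a (Ad b H) = Ad (a * b) H := (map_conj_mul H a b).symm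

theorem syl_max {P : Subgroup G} (hP : IsPGroup 2 P) (h : c.e.syl ≤ P) : P = c.e.syl := by
  rw [← c.hT] at h ⊢; exact c.T.3 hP h

theorem s_conj_box (X Y : Subgroup P4) : Ad c.e.s (c.e.box X Y) = c.e.box Y X := by
  ext g
  rw [mem_Ad, c.e.s_inv, c.e.mem_box, c.e.mem_box]
  constructor
  · rintro ⟨x, hx, y, hy, h⟩
    refine ⟨y, hy, x, hx, ?_⟩
    have h2 : c.e.s * c.ι (x, y) * c.e.s = g := by
      rw [show c.ι (x, y) = c.e.s * g * c.e.s from h, ← mul_assoc, ← mul_assoc, c.e.s_sq, one_mul,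
        mul_assoc, c.e.s_sq, mul_one]
    rw [← h2, c.e.s_swap]; rfl
  · rintro ⟨y, hy, x, hx, rfl⟩
    exact ⟨x, hx, y, hy, (c.e.s_swap (y, x)).symm⟩

theorem box_conj {X Y : Subgroup P4} (a : P4 × P4) (hX : ∀ x ∈ X, a.1 * x * a.1⁻¹ ∈ X)
    (hY : ∀ y ∈ Y, a.2 * y * a.2⁻¹ ∈ Y) : ∀ g ∈ c.e.box X Y, c.ι a * g * (c.ι a)⁻¹ ∈ c.e.box X Y := by
  intro g hg
  obtain ⟨x, hx, y, hy, rfl⟩ := c.e.mem_box.1 hg
  rw [c.e.conj_ι]
  exact c.e.ι_mem_box.2 ⟨hX x hx, hY y hy⟩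

theorem box_normal_ext {X : Subgroup P4} {S : Subgroup (P4 × P4)} {hS : ∀ p ∈ S, p.swap ∈ S}
    (hX : ∀ p ∈ S, ∀ x ∈ X, p.1 * x * p.1⁻¹ ∈ X) :
    c.e.ext S hS ≤ normalizer (c.e.box X X : Set G) := by
  have hs : c.e.s ∈ normalizer (c.e.box X X : Set G) := map_conj_eq_self_iff.1 (c.s_conj_box X X)
  have hp : ∀ p ∈ S, c.ι p ∈ normalizer (c.e.box X X : Set G) := by
    intro p hp
    refine mem_normalizer_iff.2 fun g => ⟨c.box_conj p (hX p hp) (hX _ (hS p hp)) g, fun hg => ?_⟩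
    have h := c.box_conj p⁻¹ (hX _ (S.inv_mem hp)) (hX _ (hS _ (S.inv_mem hp))) _ hg
    rwa [map_inv, inv_inv, ← mul_assoc, ← mul_assoc, inv_mul_cancel, one_mul, mul_assoc,
      inv_mul_cancel, mul_one] at h
  rintro g ⟨p, hpS, rfl | rfl⟩
  · exact hp p hpS
  · exact mul_mem (hp p hpS) hs

theorem wr_le_normalizer_VV : c.e.wr ≤ normalizer (c.VV : Set G) :=
  c.box_normal_ext fun p _ x hx => four_conj p.1 x hx

theorem syl_le_normalizer_KK : c.e.syl ≤ normalizer (c.KK : Set G) :=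
  c.box_normal_ext fun p hp x hx => kay_conj p.1 x hp.1 hx

theorem VV_le_base : c.VV ≤ c.e.base := c.e.box_mono four_le_dih four_le_dih
theorem KK_le_base : c.KK ≤ c.e.base := c.e.box_mono kay_le_dih kay_le_dih
theorem VK_le_base : c.VK ≤ c.e.base := c.e.box_mono four_le_dih kay_le_dih
theorem KV_le_base : c.KV ≤ c.e.base := c.e.box_mono kay_le_dih four_le_dih

theorem normalizer_VV [Finite G] : normalizer (c.VV : Set G) = c.e.wr := by
  refine c.hmax.2 _ ⟨c.VV, c.isPGroup_base.to_le c.VV_le_base, ?_, rfl⟩ c.wr_le_normalizer_VV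
  intro h
  have h1 : c.ι (z, 1) ∈ c.VV := c.e.ι_mem_box.2 ⟨z_mem_four, one_mem _⟩
  rw [h, mem_bot, ← map_one c.ι] at h1
  exact absurd (congrArg Prod.fst (c.e.inj h1)) (by decide)

/-- Elementary abelian subgroups of order 16. -/
def IsE16 (A : Subgroup G) : Prop :=
  A ≤ c.e.syl ∧ (∀ x ∈ A, ∀ y ∈ A, x * y = y * x) ∧ (∀ x ∈ A, x * x = 1) ∧ Nat.card A = 16

theorem box_isE16 {X Y : Subgroup P4} (hX : X = four ∨ X = kay) (hY : Y = four ∨ Y = kay) :
    c.IsE16 (c.e.box X Y) := by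
  have key : ∀ Z : Subgroup P4, Z = four ∨ Z = kay → Z ≤ dih ∧ (∀ x ∈ Z, x * x = 1) ∧
      (∀ x ∈ Z, ∀ y ∈ Z, x * y = y * x) ∧ Nat.card Z = 4 := by
    rintro Z (rfl | rfl)
    · exact ⟨four_le_dih, sq_four, fun x hx y hy => comm_four x y hx hy, card_four⟩
    · exact ⟨kay_le_dih, sq_kay, fun x hx y hy => comm_kay x y hx hy, card_kay⟩
  obtain ⟨hX1, hX2, hX3, hX4⟩ := key X hX
  obtain ⟨hY1, hY2, hY3, hY4⟩ := key Y hY
  refine ⟨(c.e.box_mono hX1 hY1).trans c.e.base_le_syl, ?_, ?_, by rw [c.e.card_box, hX4, hY4]⟩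
  · intro g hg g' hg'
    obtain ⟨x, hx, y, hy, rfl⟩ := c.e.mem_box.1 hg
    obtain ⟨x', hx', y', hy', rfl⟩ := c.e.mem_box.1 hg'
    rw [← map_mul, ← map_mul, Prod.mk_mul_mk, Prod.mk_mul_mk, hX3 x hx x' hx', hY3 y hy y' hy']
  · intro g hg
    obtain ⟨x, hx, y, hy, rfl⟩ := c.e.mem_box.1 hg
    rw [← map_mul, Prod.mk_mul_mk, hX2 x hx, hY2 y hy, Prod.mk_one_one, map_one]

theorem Ad_isE16 {A : Subgroup G} (hA : c.IsE16 A) {g : G} (h : Ad g A ≤ c.e.syl) :
    c.IsE16 (Ad g A) := by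
  refine ⟨h, ?_, ?_, by rw [card_map_conj]; exact hA.2.2.2⟩
  · rintro _ ⟨x, hx, rfl⟩ _ ⟨y, hy, rfl⟩
    rw [← map_mul, ← map_mul, hA.2.1 x hx y hy]
  · rintro _ ⟨x, hx, rfl⟩
    rw [← map_mul, hA.2.2.1 x hx, map_one]

theorem E16_le_base [Finite G] {A : Subgroup G} (hA : c.IsE16 A) : A ≤ c.e.base := by
  obtain ⟨hAT, hcomm, hsq, hcard⟩ := hA
  intro a ha
  by_contra hab
  obtain ⟨p, hp, rfl | rfl⟩ := hAT ha
  · exact hab (c.e.mem_map.2 hp)
  set A0 : Subgroup G := A ⊓ c.e.base with hA0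
  have hout : ∀ x ∈ A, x ∉ c.e.base → c.ι p * c.e.s * x ∈ A0 := by
    intro x hx hxb
    refine ⟨A.mul_mem ha hx, ?_⟩
    obtain ⟨q, hq, rfl | rfl⟩ := hAT hx
    · exact (hxb (c.e.mem_map.2 hq)).elim
    · show c.ι p * c.e.s * (c.ι q * c.e.s) ∈ c.e.base
      rw [mul_assoc, ← mul_assoc c.e.s, c.e.s_swap, ← map_mul]
      exact c.e.mem_map.2 (mul_mem hp (Emb.swap_dih q hq))
  have h8 : 8 ≤ Nat.card A0 := by
    classical
    let f : A → A0 × Bool := fun x =>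
      if hx : (x : G) ∈ c.e.base then (⟨x, x.2, hx⟩, false) else (⟨_, hout x x.2 hx⟩, true)
    have hf : Function.Injective f := by
      intro x y hxy
      simp only [f] at hxy
      split_ifs at hxy with h1 h2 h2
      · exact Subtype.ext (congrArg (fun t => (t.1 : G)) hxy)
      · exact absurd (congrArg Prod.snd hxy) (by simp)
      · exact absurd (congrArg Prod.snd hxy) (by simp)
      · exact Subtype.ext (mul_left_cancel (congrArg (fun t => (t.1 : G)) hxy))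
    have := Nat.card_le_card_of_injective f hf
    rw [Nat.card_prod, hcard, Nat.card_eq_fintype_card (α := Bool), Fintype.card_bool] at this
    omega
  have hdet : ∀ x y : P4, c.ι (x, y) ∈ A0 → y = p.1⁻¹ * x * p.1 := by
    intro x y hxy
    have h := hcomm _ hxy.1 _ ha
    rw [← mul_assoc, ← map_mul, mul_assoc (c.ι p), c.e.s_mul, ← mul_assoc, ← map_mul] at h
    have := congrArg Prod.fst (c.e.mul_s_inj h)
    simp only [Prod.fst_mul, Prod.fst_swap] at this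
    rw [mul_assoc, this, inv_mul_cancel_left]
  have hpick : ∀ g ∈ A0, ∃ q : P4 × P4, q.1 ∈ dih ∧ q.2 ∈ dih ∧ c.ι q = g := by
    intro g hg
    obtain ⟨q, hq, rfl⟩ := hg.2
    exact ⟨q, hq.1, hq.2, rfl⟩
  choose q hq1 hq2 hq3 using hpick
  let f : A0 → dih := fun g => ⟨(q g g.2).1, hq1 g g.2⟩
  have hf : Function.Bijective f := by
    refine Function.Injective.bijective_of_nat_card_le ?_ (by rw [card_dih]; exact h8)
    intro g g' h
    have h1 : (q g g.2).1 = (q g' g'.2).1 := congrArg Subtype.val h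
    have h2 : (q g g.2).2 = (q g' g'.2).2 := by
      rw [hdet (q g g.2).1 (q g g.2).2 (by rw [Prod.mk.eta, hq3]; exact g.2),
        hdet (q g' g'.2).1 (q g' g'.2).2 (by rw [Prod.mk.eta, hq3]; exact g'.2), h1]
    exact Subtype.ext (by rw [← hq3 g g.2, ← hq3 g' g'.2, Prod.ext h1 h2])
  obtain ⟨g, hg⟩ := hf.2 ⟨k, k_mem_dih⟩
  obtain ⟨g', hg'⟩ := hf.2 ⟨v, v_mem_dih⟩
  have h := hcomm _ g.2.1 _ g'.2.1
  rw [← hq3 g g.2, ← hq3 g' g'.2, ← map_mul, ← map_mul] at h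
  have h' := congrArg Prod.fst (c.e.inj h)
  rw [Prod.fst_mul, Prod.fst_mul] at h'
  rw [show (q g g.2).1 = k from congrArg Subtype.val hg,
    show (q g' g'.2).1 = v from congrArg Subtype.val hg'] at h'
  exact absurd h' (by decide)

theorem proj_cases {A : Subgroup G} (hcomm : ∀ x ∈ A, ∀ y ∈ A, x * y = y * x)
    (hsq : ∀ x ∈ A, x * x = 1) (hAB : A ≤ c.e.base) (π : P4 × P4 →* P4)
    (hπ : ∀ p ∈ dih.prod dih, π p ∈ dih) :
    (∀ p, c.ι p ∈ A → π p ∈ four) ∨ (∀ p, c.ι p ∈ A → π p ∈ kay) := by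
  by_contra hne
  rw [not_or, not_forall, not_forall] at hne
  obtain ⟨⟨p, hp⟩, ⟨q, hq⟩⟩ := hne
  rw [Classical.not_imp] at hp hq
  have hd : ∀ w, c.ι w ∈ A → π w ∈ dih := fun w hw => hπ w (c.e.mem_map.1 (hAB hw))
  have hs : ∀ w, c.ι w ∈ A → π w * π w = 1 := fun w hw => by
    rw [← map_mul, show w * w = 1 from c.e.inj (by rw [map_mul, map_one]; exact hsq _ hw), map_one]
  have hc : π p * π q = π q * π p := by
    rw [← map_mul, ← map_mul, show p * q = q * p from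
      c.e.inj (by rw [map_mul, map_mul]; exact hcomm _ hp.1 _ hq.1)]
  rcases comm_cases _ _ (hd p hp.1) (hd q hq.1) (hs p hp.1) (hs q hq.1) hc with ⟨h1, -⟩ | ⟨-, h2⟩
  · exact hp.2 h1
  · exact hq.2 h2

theorem E16_cases [Finite G] {A : Subgroup G} (hA : c.IsE16 A) :
    A = c.VV ∨ A = c.KK ∨ A = c.VK ∨ A = c.KV := by
  have hAB := c.E16_le_base hA
  obtain ⟨-, hcomm, hsq, hcard⟩ := hA
  have key : ∀ X Y : Subgroup P4, (X = four ∨ X = kay) → (Y = four ∨ Y = kay) →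
      (∀ p, c.ι p ∈ A → p.1 ∈ X) → (∀ p, c.ι p ∈ A → p.2 ∈ Y) → A = c.e.box X Y := by
    intro X Y hX hY h1 h2
    refine eq_of_le_of_card_ge (fun g hg => ?_) (le_of_eq ?_)
    · obtain ⟨p, -, rfl⟩ := hAB hg
      exact c.e.ι_mem_box.2 ⟨h1 p hg, h2 p hg⟩
    · rw [hcard]; exact (c.box_isE16 hX hY).2.2.2
  rcases c.proj_cases hcomm hsq hAB (MonoidHom.fst P4 P4) (fun _ hp => hp.1) with h1 | h1 <;>
    rcases c.proj_cases hcomm hsq hAB (MonoidHom.snd P4 P4) (fun _ hp => hp.2) with h2 | h2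
  · exact Or.inl (key _ _ (Or.inl rfl) (Or.inl rfl) h1 h2)
  · exact Or.inr (Or.inr (Or.inl (key _ _ (Or.inl rfl) (Or.inr rfl) h1 h2)))
  · exact Or.inr (Or.inr (Or.inr (key _ _ (Or.inr rfl) (Or.inl rfl) h1 h2)))
  · exact Or.inr (Or.inl (key _ _ (Or.inr rfl) (Or.inr rfl) h1 h2))

/-- An element normalising `B` in the wreath product lies in the Sylow subgroup. -/
theorem mem_syl_of_mem_wr {g : G} (hg : g ∈ c.e.wr) (hn : g ∈ normalizer (c.e.base : Set G)) :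
    g ∈ c.e.syl := by
  have hs : c.e.s ∈ normalizer (c.e.base : Set G) := map_conj_eq_self_iff.1 (c.s_conj_box dih dih)
  have hι : ∀ p, c.ι p ∈ normalizer (c.e.base : Set G) → c.ι p ∈ c.e.syl := by
    intro p hp
    have hb : c.ι (k, k) ∈ c.e.base := c.e.ι_mem_box.2 ⟨k_mem_dih, k_mem_dih⟩
    have h := (mem_normalizer_iff.1 hp _).1 hb
    rw [c.e.conj_ι] at h
    obtain ⟨h1, h2⟩ := c.e.mem_map.1 h
    exact c.e.mem_syl_iff.2 ⟨mem_dih_of_conj _ h1, mem_dih_of_conj _ h2⟩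
  obtain ⟨p, rfl | rfl⟩ := c.e.mem_wr.1 hg
  · exact hι p hn
  · refine mul_mem (hι p ?_) c.e.s_mem_syl
    simpa using mul_mem hn (inv_mem hs)

theorem isPGroup_of_pow_four {H : Subgroup G} (h : ∀ g ∈ H, g ^ 4 ∈ c.e.syl) : IsPGroup 2 H := by
  intro g
  obtain ⟨n, hn⟩ := c.isPGroup_syl ⟨_, h g g.2⟩
  refine ⟨n + 2, Subtype.ext ?_⟩
  have := congrArg Subtype.val hn
  rw [SubgroupClass.coe_pow, OneMemClass.coe_one, ← pow_mul] at this
  rw [SubgroupClass.coe_pow, OneMemClass.coe_one, pow_add, mul_comm]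
  exact this

theorem base_normal_syl : c.e.syl ≤ normalizer (c.e.base : Set G) :=
  c.box_normal_ext fun p hp _ hx => mul_mem (mul_mem hp.1 hx) (inv_mem hp.1)

/-- The Sylow subgroup is the whole normaliser of `D₈ × D₈`. -/
theorem normalizer_base [Finite G] : normalizer (c.e.base : Set G) = c.e.syl := by
  set N := normalizer (c.e.base : Set G) with hN
  have hperm : ∀ n ∈ N, ∀ A, c.IsE16 A → c.IsE16 (Ad n A) := by
    intro n hn A hA
    refine c.Ad_isE16 hA (le_trans ?_ c.e.base_le_syl)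
    rw [← map_conj_eq_self_iff.2 hn]
    exact Subgroup.map_mono (c.E16_le_base hA)
  have hmeet : ∀ n ∈ N, Nat.card ↥(Ad n c.VV ⊓ Ad n c.KK) = 4 := by
    intro n _
    rw [← Subgroup.map_inf _ _ _ (MulAut.conj n).injective, card_map_conj]
    have : c.VV ⊓ c.KK = c.e.box (four ⊓ kay) (four ⊓ kay) := by
      simp only [VV, KK, Emb.box]
      rw [← Subgroup.map_inf _ _ _ c.e.inj]
      congr 1
      ext ⟨a, b⟩; simp [mem_prod, and_and_and_comm]
    rw [this, c.e.card_box]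
    have : Nat.card ↥(four ⊓ kay : Subgroup P4) = 2 := by
      rw [show (four ⊓ kay : Subgroup P4) = zpowers z from le_antisymm
        (fun x hx => (four_inter_kay x hx.1 hx.2).elim (fun h => h ▸ one_mem _)
          (fun h => h ▸ mem_zpowers z))
        (le_inf (zpowers_le.2 z_mem_four) (zpowers_le.2 z_mem_kay)), Nat.card_zpowers,
        orderOf_eq_prime_iff (p := 2) |>.2 ⟨by decide, by decide⟩]
    rw [this]
  have hVK : Nat.card ↥(c.VV ⊓ c.VK) ≠ 4 := by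
    intro h
    have : c.e.box four (zpowers z) ≤ c.VV ⊓ c.VK :=
      le_inf (c.e.box_mono le_rfl (zpowers_le.2 z_mem_four)) (c.e.box_mono le_rfl (zpowers_le.2 z_mem_kay))
    have h2 := Subgroup.card_le_of_le this
    rw [h, c.e.card_box, card_four, Nat.card_zpowers,
      orderOf_eq_prime_iff (p := 2) |>.2 ⟨by decide, by decide⟩] at h2
    omega
  have hadj : ∀ A B : Subgroup G, Nat.card ↥(A ⊓ B) ≠ 4 → Nat.card ↥(B ⊓ A) ≠ 4 := fun A B h => by
    rwa [inf_comm]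
  have hflip : ∀ X Y Z W : Subgroup P4, Nat.card ↥(c.e.box X Y ⊓ c.e.box Z W) ≠ 4 →
      Nat.card ↥(c.e.box Y X ⊓ c.e.box W Z) ≠ 4 := fun X Y Z W h => by
    rwa [← c.s_conj_box X Y, ← c.s_conj_box Z W,
      ← Subgroup.map_inf _ _ _ (MulAut.conj c.e.s).injective, card_map_conj]
  have hKVK : Nat.card ↥(c.KK ⊓ c.VK) ≠ 4 := by
    intro h
    have : c.e.box (zpowers z) kay ≤ c.KK ⊓ c.VK :=
      le_inf (c.e.box_mono (zpowers_le.2 z_mem_kay) le_rfl) (c.e.box_mono (zpowers_le.2 z_mem_four) le_rfl)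
    have h2 := Subgroup.card_le_of_le this
    rw [h, c.e.card_box, card_kay, Nat.card_zpowers,
      orderOf_eq_prime_iff (p := 2) |>.2 ⟨by decide, by decide⟩] at h2
    omega
  have hKV : Nat.card ↥(c.VV ⊓ c.KV) ≠ 4 := hflip _ _ _ _ hVK
  have hKKV : Nat.card ↥(c.KK ⊓ c.KV) ≠ 4 := hflip _ _ _ _ hKVK
  have hpair : ∀ n ∈ N, ((Ad n c.VV = c.VV ∨ Ad n c.VV = c.KK) ∧ (Ad n c.KK = c.VV ∨ Ad n c.KK = c.KK)) ∨
      ((Ad n c.VV = c.VK ∨ Ad n c.VV = c.KV) ∧ (Ad n c.KK = c.VK ∨ Ad n c.KK = c.KV)) := by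
    intro n hn
    have h4 := hmeet n hn
    have h16 : ∀ {A : Subgroup G}, c.IsE16 A → Nat.card ↥(A ⊓ A) ≠ 4 := fun hA => by
      rw [inf_idem, hA.2.2.2]; omega
    have hV := c.box_isE16 (Or.inl rfl) (Or.inl rfl)
    have hK := c.box_isE16 (Or.inr rfl) (Or.inr rfl)
    rcases c.E16_cases (hperm n hn _ hV) with h | h | h | h <;>
      rcases c.E16_cases (hperm n hn _ hK) with h' | h' | h' | h' <;> rw [h, h'] at h4
    all_goals first
      | exact Or.inl ⟨Or.inl h, Or.inl h'⟩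
      | exact Or.inl ⟨Or.inl h, Or.inr h'⟩
      | exact Or.inl ⟨Or.inr h, Or.inl h'⟩
      | exact Or.inl ⟨Or.inr h, Or.inr h'⟩
      | exact Or.inr ⟨Or.inl h, Or.inl h'⟩
      | exact Or.inr ⟨Or.inl h, Or.inr h'⟩
      | exact Or.inr ⟨Or.inr h, Or.inl h'⟩
      | exact Or.inr ⟨Or.inr h, Or.inr h'⟩
      | exact (hVK h4).elim
      | exact (hKV h4).elim
      | exact (hadj _ _ hVK h4).elim
      | exact (hadj _ _ hKV h4).elim
      | exact (hKVK h4).elim
      | exact (hKKV h4).elim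
      | exact (hadj _ _ hKVK h4).elim
      | exact (hadj _ _ hKKV h4).elim
  have hne : c.VV ≠ c.VK ∧ c.VV ≠ c.KV ∧ c.KK ≠ c.VK ∧ c.KK ≠ c.KV ∧ c.VV ≠ c.KK := by
    have hm : ∀ {X Y : Subgroup P4} {x y : P4}, x ∈ X → y ∈ Y → c.ι (x, y) ∈ c.e.box X Y :=
      fun hx hy => c.e.ι_mem_box.2 ⟨hx, hy⟩
    have hn : ∀ {X Y X' Y' : Subgroup P4} {x y : P4}, x ∈ X → y ∈ Y → ¬ (x ∈ X' ∧ y ∈ Y') →
        c.e.box X Y ≠ c.e.box X' Y' := fun hx hy hno h => hno (c.e.ι_mem_box.1 (h ▸ hm hx hy))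
    refine ⟨hn v_mem_four v_mem_four ?_, hn v_mem_four v_mem_four ?_, hn k_mem_kay k_mem_kay ?_,
      hn k_mem_kay k_mem_kay ?_, hn v_mem_four v_mem_four ?_⟩ <;> decide
  refine c.syl_max (c.isPGroup_of_pow_four fun n hn => ?_) c.base_normal_syl
  have hcomp : ∀ a b : G, ∀ A : Subgroup G, Ad (a * b) A = Ad a (Ad b A) := fun a b A => map_conj_mul A a b
  have h2 : (Ad (n * n) c.VV = c.VV ∨ Ad (n * n) c.VV = c.KK) ∧
      (Ad (n * n) c.KK = c.VV ∨ Ad (n * n) c.KK = c.KK) := by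
    rcases hpair (n * n) (mul_mem hn hn) with h | h
    · exact h
    exfalso
    obtain ⟨hne1, hne2, hne3, hne4, hne5⟩ := hne
    have hinj : ∀ {A A' : Subgroup G}, Ad n A = Ad n A' → A = A' :=
      fun h => Subgroup.map_injective (MulAut.conj n).injective h
    rw [hcomp, hcomp] at h
    rcases hpair n hn with ⟨a, b⟩ | ⟨a, b⟩
    · rcases a with a | a <;> rcases b with b | b <;>
        simp only [a, b, hne1, hne2, hne3, hne4, false_or, or_false, false_and, and_false] at h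
    · have hA : Ad n (Ad n c.VV) = Ad n c.VV ∨ Ad n (Ad n c.VV) = Ad n c.KK := by
        rcases h.1 with h1 | h1 <;> rcases a with a | a <;> rcases b with b | b <;>
          first
            | exact Or.inl (h1.trans a.symm)
            | exact Or.inr (h1.trans b.symm)
            | exact absurd (hinj (a.trans b.symm)) hne5
      rcases hA with hA | hA <;> have h5 := hinj hA <;> rcases a with a | a <;> rw [a] at h5
      exacts [hne1 h5.symm, hne2 h5.symm, hne3 h5.symm, hne4 h5.symm]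
  have h4 : Ad (n * n * (n * n)) c.VV = c.VV := by
    rw [hcomp]
    rcases h2.1 with h | h
    · rw [h, h]
    · rw [h]
      rcases h2.2 with h' | h'
      · exact h'
      · exact absurd (Subgroup.map_injective (MulAut.conj (n * n)).injective (h.trans h'.symm)) hne.2.2.2.2
  rw [show n ^ 4 = n * n * (n * n) by simp only [pow_succ, pow_zero, one_mul, mul_assoc]]
  exact c.mem_syl_of_mem_wr (c.normalizer_VV ▸ map_conj_eq_self_iff.1 h4)
    (mul_mem (mul_mem hn hn) (mul_mem hn hn))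

theorem base_eq_sup : c.e.base = c.VV ⊔ c.KK := by
  refine le_antisymm ?_ (sup_le c.VV_le_base c.KK_le_base)
  rw [Emb.base, Ctx.VV, Ctx.KK, Emb.box, Emb.box, ← Subgroup.map_sup]
  refine Subgroup.map_mono ?_
  have hd : ∀ x : P4, x ∈ dih → ∃ a ∈ four, ∃ b ∈ kay, x = a * b := by
    intro x hx
    rcases dih_split x hx with ⟨h, -⟩ | ⟨h, -⟩ | ⟨h, -⟩ | ⟨h, -⟩
    exacts [⟨x, h, 1, one_mem _, (mul_one _).symm⟩, ⟨1, one_mem _, x, h, (one_mul _).symm⟩,
      ⟨x * k⁻¹, h, k, k_mem_kay, (inv_mul_cancel_right _ _).symm⟩,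
      ⟨x * k⁻¹, h, k, k_mem_kay, (inv_mul_cancel_right _ _).symm⟩]
  rintro ⟨x, y⟩ ⟨hx, hy⟩
  obtain ⟨a, ha, b, hb, rfl⟩ := hd x hx
  obtain ⟨a', ha', b', hb', rfl⟩ := hd y hy
  rw [show ((a * b, a' * b') : P4 × P4) = (a, a') * (b, b') from rfl]
  exact mul_mem_sup ⟨ha, ha'⟩ ⟨hb, hb'⟩

theorem normalizer_syl [Finite G] : normalizer (c.e.syl : Set G) = c.e.syl := by
  refine le_antisymm (fun n hn => ?_) le_normalizer
  rw [← c.normalizer_base]
  refine map_conj_eq_self_iff.1 (eq_of_le_of_card_ge ?_ (le_of_eq (card_map_conj _ _).symm))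
  have h : ∀ A, c.IsE16 A → Ad n A ≤ c.e.base := fun A hA =>
    c.E16_le_base (c.Ad_isE16 hA ((Subgroup.map_mono hA.1).trans (map_conj_eq_self_iff.2 hn).le))
  show Ad n c.e.base ≤ c.e.base
  rw [c.base_eq_sup, Ad, Subgroup.map_sup, ← c.base_eq_sup]
  exact sup_le (h _ (c.box_isE16 (Or.inl rfl) (Or.inl rfl))) (h _ (c.box_isE16 (Or.inr rfl) (Or.inr rfl)))

theorem VV_ne_KK : c.VV ≠ c.KK := fun h =>
  absurd (c.e.ι_mem_box.1 (h ▸ c.e.ι_mem_box.2 ⟨v_mem_four, v_mem_four⟩ : c.ι (v, v) ∈ c.KK))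
    (by decide)

theorem VK_ne_KV : c.VK ≠ c.KV := fun h =>
  absurd (c.e.ι_mem_box.1 (h ▸ c.e.ι_mem_box.2 ⟨v_mem_four, k_mem_kay⟩ : c.ι (v, k) ∈ c.KV))
    (by decide)

theorem syl_not_normalizes_mixed {A : Subgroup G} (hA : A = c.VK ∨ A = c.KV) :
    ¬ c.e.syl ≤ normalizer (A : Set G) := by
  intro h
  have := map_conj_eq_self_iff.2 (h c.e.s_mem_syl)
  rcases hA with rfl | rfl <;> rw [← Ad, c.s_conj_box] at this
  exacts [c.VK_ne_KV this.symm, c.VK_ne_KV this]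

/-- 2-subgroups of the normaliser of a mixed elementary 16 have order at most 64. -/
theorem le_base_of_normalizes_mixed [Finite G] {A S : Subgroup G} (hA : A = c.VK ∨ A = c.KV)
    (hS : IsPGroup 2 S) (hSA : S ≤ normalizer (A : Set G)) (hBS : c.e.base ≤ S) : S = c.e.base := by
  haveI : Fact (Nat.Prime 2) := ⟨Nat.prime_two⟩
  refine (eq_of_le_of_not_lt hBS fun hlt => ?_).symm
  have h := Cfsg.Agent.Transfer.Frobenius.lt_inf_normalizer hS hlt
  rw [c.normalizer_base] at h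
  obtain ⟨y, ⟨hyS, hyT⟩, hyB⟩ := SetLike.exists_of_lt h
  apply c.syl_not_normalizes_mixed hA
  obtain ⟨p, hp, rfl | rfl⟩ := hyT
  · exact (hyB (c.e.mem_map.2 hp)).elim
  have hB : c.e.base ≤ normalizer (A : Set G) := hBS.trans hSA
  have hs : c.e.s ∈ normalizer (A : Set G) := by
    have h1 : c.ι p ∈ normalizer (A : Set G) := hB (c.e.mem_map.2 hp)
    simpa using mul_mem (inv_mem h1) (hSA hyS)
  rintro g ⟨q, hq, rfl | rfl⟩
  · exact hB (c.e.mem_map.2 hq)
  · exact mul_mem (hB (c.e.mem_map.2 hq)) hs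

theorem base_normalizes_mixed {A : Subgroup G} (hA : A = c.VK ∨ A = c.KV) :
    c.e.base ≤ normalizer (A : Set G) := by
  intro g hg
  obtain ⟨p, hp, rfl⟩ := hg
  rw [mem_normalizer_iff]
  intro x
  have hX : ∀ {X : Subgroup P4}, X = four ∨ X = kay → ∀ a ∈ dih, ∀ x ∈ X, a * x * a⁻¹ ∈ X := by
    rintro X (rfl | rfl) a ha x hx
    exacts [four_conj a x hx, kay_conj a x ha hx]
  rcases hA with rfl | rfl
  · refine ⟨c.box_conj p (hX (Or.inl rfl) _ hp.1) (hX (Or.inr rfl) _ hp.2) x, fun hx => ?_⟩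
    have h := c.box_conj p⁻¹ (hX (Or.inl rfl) _ (inv_mem hp.1)) (hX (Or.inr rfl) _ (inv_mem hp.2)) _ hx
    rwa [map_inv, inv_inv, ← mul_assoc, ← mul_assoc, inv_mul_cancel, one_mul, mul_assoc,
      inv_mul_cancel, mul_one] at h
  · refine ⟨c.box_conj p (hX (Or.inr rfl) _ hp.1) (hX (Or.inl rfl) _ hp.2) x, fun hx => ?_⟩
    have h := c.box_conj p⁻¹ (hX (Or.inr rfl) _ (inv_mem hp.1)) (hX (Or.inl rfl) _ (inv_mem hp.2)) _ hx
    rwa [map_inv, inv_inv, ← mul_assoc, ← mul_assoc, inv_mul_cancel, one_mul, mul_assoc,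
      inv_mul_cancel, mul_one] at h

/-- A subgroup whose normaliser has a conjugate of the Sylow subgroup is not mixed. -/
theorem Ad_ne_mixed [Finite G] {X : Subgroup G} (hX : c.e.syl ≤ normalizer (X : Set G)) (g : G)
    {A : Subgroup G} (hA : A = c.VK ∨ A = c.KV) : Ad g X ≠ A := by
  intro h
  haveI : Fact (Nat.Prime 2) := ⟨Nat.prime_two⟩
  obtain ⟨k, hk, R, hR1, hR2⟩ := exists_conj_le_sylow c.isPGroup_base (c.base_normalizes_mixed hA)
    (c.isPGroup_syl.map (MulAut.conj g).toMonoidHom) (K := normalizer (A : Set G)) (by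
      rintro _ ⟨t, ht, rfl⟩
      refine map_conj_eq_self_iff.1 ?_
      show Ad (g * t * g⁻¹) A = A
      rw [← h, Ad_Ad, inv_mul_cancel_right, ← Ad_Ad]
      exact congrArg _ (map_conj_eq_self_iff.2 (hX ht)))
  have hS : IsPGroup 2 ↥((R : Subgroup G) ⊓ normalizer (A : Set G)) := R.2.to_le inf_le_left
  have heq := c.le_base_of_normalizes_mixed hA hS inf_le_right (le_inf hR1 (c.base_normalizes_mixed hA))
  have hle : Ad k (Ad g c.e.syl) ≤ c.e.base := by
    rw [← heq]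
    refine le_inf hR2 ?_
    rintro _ ⟨w, hw, rfl⟩
    refine mul_mem (mul_mem hk ?_) (inv_mem hk)
    obtain ⟨t, ht, rfl⟩ := hw
    refine map_conj_eq_self_iff.1 ?_
    show Ad (g * t * g⁻¹) A = A
    rw [← h, Ad_Ad, inv_mul_cancel_right, ← Ad_Ad]
    exact congrArg _ (map_conj_eq_self_iff.2 (hX ht))
  have := Subgroup.card_le_of_le hle
  rw [card_map_conj, card_map_conj, c.e.card_syl, c.e.card_base] at this
  omega

theorem isWeaklyClosed_normal [Finite G] {X : Subgroup G} (hX : X = c.VV ∨ X = c.KK) :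
    Cfsg.IsWeaklyClosed X (c.T : Subgroup G) := by
  haveI : Fact (Nat.Prime 2) := ⟨Nat.prime_two⟩
  rw [c.hT]
  have hE : c.IsE16 X := by
    rcases hX with rfl | rfl
    exacts [c.box_isE16 (Or.inl rfl) (Or.inl rfl), c.box_isE16 (Or.inr rfl) (Or.inr rfl)]
  have hN : c.e.syl ≤ normalizer (X : Set G) := by
    rcases hX with rfl | rfl
    exacts [c.e.syl_le_wr.trans c.wr_le_normalizer_VV, c.syl_le_normalizer_KK]
  refine ⟨hE.1, fun g hg => ?_⟩
  have hnorm : ∀ Y : Subgroup G, Y = c.VV ∨ Y = c.KK → c.e.syl ≤ normalizer (Y : Set G) := by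
    rintro Y (rfl | rfl)
    exacts [c.e.syl_le_wr.trans c.wr_le_normalizer_VV, c.syl_le_normalizer_KK]
  rcases c.E16_cases (c.Ad_isE16 hE hg) with h | h | h | h
  case inr.inr.inl => exact (c.Ad_ne_mixed hN g (Or.inl rfl) h).elim
  case inr.inr.inr => exact (c.Ad_ne_mixed hN g (Or.inr rfl) h).elim
  all_goals
    have hY := hnorm _ (by first | exact Or.inl h | exact Or.inr h)
    obtain ⟨n, hn, hn2⟩ := burnside_fusion_set c.T (X := (X : Set G)) (g := g)
      (Y := ((Ad g X : Subgroup G) : Set G))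
      (fun x hx => mem_normalizer_iff_conj_image_eq.1 (hN (c.hT ▸ hx)))
      (fun x hx => mem_normalizer_iff_conj_image_eq.1 (hY (c.hT ▸ hx)))
      (by rw [Subgroup.coe_map]; rfl)
    replace hn : n ∈ normalizer ((c.T : Subgroup G) : Set G) := hn
    rw [c.hT, c.normalizer_syl] at hn
    exact SetLike.coe_injective (hn2.symm.trans (mem_normalizer_iff_conj_image_eq.1 (hN hn)))

theorem VK_not_conj [Finite G] {X : Subgroup G} (hX : X = c.VV ∨ X = c.KK) (g : G)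
    {A : Subgroup G} (hA : A = c.VK ∨ A = c.KV) : Ad g A ≠ X := by
  intro h
  refine c.Ad_ne_mixed (X := X) ?_ g⁻¹ hA (by rw [← h]; exact map_conj_inv_cancel A g)
  rcases hX with rfl | rfl
  exacts [c.e.syl_le_wr.trans c.wr_le_normalizer_VV, c.syl_le_normalizer_KK]

end Ctx

end Cfsg.Agent.S4Wr
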