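import Mathlib
import Cfsg.Agent.Lib.S4Wr.Weak
import Cfsg.Agent.InvChar.EvenChar
import Cfsg.Agent.Lib.Involutions.ThompsonTransfer

/-!
Centralisers of the central involutions of `D₈ × D₈`, and an element of `C(z₀)` outside the Sylow subgroup.
-/

set_option autoImplicit false
set_option linter.unusedSectionVars false

namespace Cfsg.Agent.S4Wr

open Subgroup Cfsg.Agent.Transfer.Fusion Cfsg.Agent.Transfer.NormalPComplement
open scoped commutatorElement

variable {G : Type*} [Group G]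

theorem comm_dih : ∀ x y : P4, x ∈ dih → y ∈ dih → x * y = y * x ∨ x * y = z * (y * x) := by
  decide +kernel

theorem z_mul_z : z * z = 1 := by decide

namespace Ctx

variable (c : Ctx G)

abbrev z1 : G := c.ι (z, 1)
abbrev z2 : G := c.ι (1, z)
abbrev z0 : G := c.ι (z, z)

/-- `u` is conjugate to `(z,1)`. -/
def IsA (u : G) : Prop := IsConj c.z1 u

/-- `u` is conjugate to `(z,z)`. -/
def IsB (u : G) : Prop := IsConj c.z0 u

theorem isA_conj {u : G} (h : c.IsA u) (g : G) : c.IsA (g * u * g⁻¹) := h.trans (isConj_iff.2 ⟨g, rfl⟩)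

theorem isB_conj {u : G} (h : c.IsB u) (g : G) : c.IsB (g * u * g⁻¹) := h.trans (isConj_iff.2 ⟨g, rfl⟩)

theorem conj_pair (a b x y : P4) :
    c.ι (a, b) * c.ι (x, y) * (c.ι (a, b))⁻¹ = c.ι (a * x * a⁻¹, b * y * b⁻¹) := c.e.conj_ι _ _

theorem isConj_pair {x y x' y' : P4} (hx : ∃ a, a * x * a⁻¹ = x') (hy : ∃ b, b * y * b⁻¹ = y') :
    IsConj (c.ι (x, y)) (c.ι (x', y')) := by
  obtain ⟨a, rfl⟩ := hx
  obtain ⟨b, rfl⟩ := hy
  exact isConj_iff.2 ⟨_, c.conj_pair a b x y⟩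

theorem isConj_swap (x y : P4) : IsConj (c.ι (x, y)) (c.ι (y, x)) :=
  isConj_iff.2 ⟨c.e.s, c.e.s_conj _⟩

theorem isA_fst {x : P4} (hx : x ∈ four) (h1 : x ≠ 1) : c.IsA (c.ι (x, 1)) :=
  c.isConj_pair (four_class x hx h1) ⟨1, by simp⟩

theorem isA_snd {x : P4} (hx : x ∈ four) (h1 : x ≠ 1) : c.IsA (c.ι (1, x)) :=
  (c.isA_fst hx h1).trans (c.isConj_swap x 1)

theorem isB_four {x y : P4} (hx : x ∈ four) (hx1 : x ≠ 1) (hy : y ∈ four) (hy1 : y ≠ 1) :
    c.IsB (c.ι (x, y)) :=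
  c.isConj_pair (four_class x hx hx1) (four_class y hy hy1)

theorem isA_z1 : c.IsA c.z1 := IsConj.refl _
theorem isA_z2 : c.IsA c.z2 := c.isA_snd z_mem_four (by decide)
theorem isB_z0 : c.IsB c.z0 := IsConj.refl _

theorem orderOf_pair {p : P4 × P4} (h : p * p = 1) (h1 : p ≠ 1) : orderOf (c.ι p) = 2 := by
  haveI : Fact (Nat.Prime 2) := ⟨Nat.prime_two⟩
  rw [orderOf_injective c.ι c.e.inj]
  exact orderOf_eq_prime_iff.2 ⟨by rw [pow_two, h], h1⟩

variable [Finite G]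

/-- Fusion in a normal elementary 16 is controlled by its normaliser. -/
theorem control {X : Subgroup G} (hX : X = c.VV ∨ X = c.KK) {x y : G} (hx : x ∈ X) (hy : y ∈ X)
    (h : IsConj x y) : ∃ n ∈ normalizer (X : Set G), n * x * n⁻¹ = y := by
  haveI : Fact (Nat.Prime 2) := ⟨Nat.prime_two⟩
  obtain ⟨g, rfl⟩ := isConj_iff.1 h
  have hc : ∀ w ∈ X, w ∈ centralizer (X : Set G) := fun w hw v hv => by
    rcases hX with rfl | rfl
    exacts [(c.box_isE16 (Or.inl rfl) (Or.inl rfl)).2.1 v hv w hw,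
      (c.box_isE16 (Or.inr rfl) (Or.inr rfl)).2.1 v hv w hw]
  exact IsWeaklyClosed.exists_normalizer_conj (c.isWeaklyClosed_normal hX) (hc x hx) (hc _ hy)

theorem not_isB_of_isA {u : G} (hA : c.IsA u) : ¬ c.IsB u := by
  intro hB
  obtain ⟨n, hn, he⟩ := c.control (Or.inl rfl) (c.e.ι_mem_box.2 ⟨z_mem_four, one_mem _⟩)
    (c.e.ι_mem_box.2 ⟨z_mem_four, z_mem_four⟩) (hA.trans hB.symm)
  rw [c.normalizer_VV] at hn
  obtain ⟨⟨a, b⟩, rfl | rfl⟩ := c.e.mem_wr.1 hn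
  · rw [c.conj_pair] at he
    have := congrArg Prod.snd (c.e.inj he)
    simp only [mul_one, mul_inv_cancel] at this
    exact absurd this.symm (by decide)
  · rw [mul_inv_rev, c.e.s_inv, ← mul_assoc, mul_assoc (c.ι (a, b)) c.e.s, mul_assoc (c.ι (a, b)),
      c.e.s_swap, show ((z, (1 : P4)) : P4 × P4).swap = (1, z) from rfl, c.conj_pair] at he
    have := congrArg Prod.fst (c.e.inj he)
    simp only [mul_one, mul_inv_cancel] at this
    exact absurd this.symm (by decide)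

/-- `C(z₁) ∩ C(z₂)`. -/
abbrev H : Subgroup G := centralizer ({c.z1, c.z2} : Set G)

theorem mem_H {g : G} : g ∈ c.H ↔ c.z1 * g = g * c.z1 ∧ c.z2 * g = g * c.z2 := by
  rw [mem_centralizer_iff]
  simp

theorem H_le_centralizer_z0 : c.H ≤ centralizer ({c.z0} : Set G) := by
  intro g hg
  obtain ⟨h1, h2⟩ := c.mem_H.1 hg
  rw [mem_centralizer_singleton_iff, show c.z0 = c.z1 * c.z2 by
    rw [← map_mul]; rfl, ← mul_assoc, ← h1, mul_assoc, ← h2, mul_assoc]

theorem base_le_H : c.e.base ≤ c.H := by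
  rintro g ⟨⟨x, y⟩, ⟨hx, hy⟩, rfl⟩
  rw [c.mem_H, ← map_mul, ← map_mul, ← map_mul, ← map_mul]
  exact ⟨congrArg _ (Prod.ext (mem_dih.1 hx).symm (by simp)),
    congrArg _ (Prod.ext (by simp) (mem_dih.1 hy).symm)⟩

theorem s_conj_z1 : c.e.s * c.z1 * c.e.s⁻¹ = c.z2 := c.e.s_conj _
theorem s_conj_z2 : c.e.s * c.z2 * c.e.s⁻¹ = c.z1 := c.e.s_conj _

theorem syl_inf_H : c.e.syl ⊓ c.H = c.e.base := by
  refine le_antisymm ?_ (le_inf c.e.base_le_syl c.base_le_H)
  rintro g ⟨⟨p, hp, rfl | rfl⟩, hH⟩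
  · exact c.e.mem_map.2 hp
  · exfalso
    have h : c.e.s ∈ c.H := by
      simpa using mul_mem (inv_mem (c.base_le_H (c.e.mem_map.2 hp))) hH
    have h1 := (c.mem_H.1 h).1
    rw [c.e.s_mul] at h1
    exact absurd (congrArg Prod.snd (c.e.inj (mul_right_cancel h1))) (by decide)

theorem eq_base_of_le_H {S : Subgroup G} (hS : IsPGroup 2 S) (hBS : c.e.base ≤ S) (hSH : S ≤ c.H) :
    S = c.e.base := by
  haveI : Fact (Nat.Prime 2) := ⟨Nat.prime_two⟩
  refine (eq_of_le_of_not_lt hBS fun hlt => ?_).symm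
  have h := Cfsg.Agent.Transfer.Frobenius.lt_inf_normalizer hS hlt
  rw [c.normalizer_base] at h
  exact h.not_ge (le_trans (le_inf inf_le_right (inf_le_left.trans hSH)) c.syl_inf_H.le)

theorem syl_le_normalizer_H : c.e.syl ≤ normalizer (c.H : Set G) := by
  have key : ∀ g ∈ c.e.syl, ∀ h ∈ c.H, g * h * g⁻¹ ∈ c.H := by
    intro g hg h hh
    obtain ⟨h1, h2⟩ := c.mem_H.1 hh
    have hz : (g⁻¹ * c.z1 * g = c.z1 ∧ g⁻¹ * c.z2 * g = c.z2) ∨
        (g⁻¹ * c.z1 * g = c.z2 ∧ g⁻¹ * c.z2 * g = c.z1) := by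
      obtain ⟨p, hp, rfl | rfl⟩ := hg
      · obtain ⟨hp1, hp2⟩ := c.mem_H.1 (c.base_le_H (c.e.mem_map.2 hp))
        exact Or.inl ⟨by rw [mul_assoc, hp1, inv_mul_cancel_left],
          by rw [mul_assoc, hp2, inv_mul_cancel_left]⟩
      · obtain ⟨hp1, hp2⟩ := c.mem_H.1 (c.base_le_H (c.e.mem_map.2 hp))
        refine Or.inr ⟨?_, ?_⟩ <;> rw [mul_inv_rev, c.e.s_inv]
        · rw [show c.e.s * (c.e.ι p)⁻¹ * c.z1 * (c.e.ι p * c.e.s) =
            c.e.s * ((c.e.ι p)⁻¹ * (c.z1 * c.e.ι p)) * c.e.s by group, hp1, inv_mul_cancel_left]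
          exact c.e.s_swap _
        · rw [show c.e.s * (c.e.ι p)⁻¹ * c.z2 * (c.e.ι p * c.e.s) =
            c.e.s * ((c.e.ι p)⁻¹ * (c.z2 * c.e.ι p)) * c.e.s by group, hp2, inv_mul_cancel_left]
          exact c.e.s_swap _
    have mk : ∀ u w : G, g⁻¹ * u * g = w → w * h = h * w → u * (g * h * g⁻¹) = g * h * g⁻¹ * u := by
      intro u w hu hw
      rw [← hu] at hw
      calc u * (g * h * g⁻¹) = g * (g⁻¹ * u * g * h) * g⁻¹ := by group
        _ = g * (h * (g⁻¹ * u * g)) * g⁻¹ := by rw [hw]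
        _ = g * h * g⁻¹ * u := by group
    rcases hz with ⟨a, b⟩ | ⟨a, b⟩
    exacts [c.mem_H.2 ⟨mk _ _ a h1, mk _ _ b h2⟩, c.mem_H.2 ⟨mk _ _ a h2, mk _ _ b h1⟩]
  exact Subgroup.le_normalizer_iff.2 key

theorem hasNormalPComplement_H : Cfsg.HasNormalPComplement 2 ↥c.H := by
  haveI : Fact (Nat.Prime 2) := ⟨Nat.prime_two⟩
  let Z : Subgroup G := c.e.box (zpowers z) (zpowers z)
  have hzle : zpowers z ≤ dih := zpowers_le.2 z_mem_dih
  have hZB : Z ≤ c.e.base := c.e.box_mono hzle hzle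
  have hZ : ∀ g ∈ c.H, ∀ w ∈ Z, w * g = g * w := by
    intro g hg w hw
    have hz1 : c.z1 ∈ centralizer ({g} : Set G) := mem_centralizer_singleton_iff.2 (c.mem_H.1 hg).1
    have hz2 : c.z2 ∈ centralizer ({g} : Set G) := mem_centralizer_singleton_iff.2 (c.mem_H.1 hg).2
    refine mem_centralizer_singleton_iff.1 (?_ : w ∈ centralizer ({g} : Set G))
    obtain ⟨x, ⟨i, rfl⟩, y, ⟨j, rfl⟩, rfl⟩ := c.e.mem_box.1 hw
    have : c.ι (z ^ i, z ^ j) = c.z1 ^ i * c.z2 ^ j := by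
      rw [← map_zpow, ← map_zpow, ← map_mul]; simp
    rw [this]
    exact mul_mem (zpow_mem hz1 i) (zpow_mem hz2 j)
  let N : Subgroup ↥c.H := Z.subgroupOf c.H
  have hNc : N ≤ Subgroup.center ↥c.H := fun w hw => mem_center_iff.2 fun g =>
    Subtype.ext (hZ g g.2 w hw).symm
  haveI : N.Normal := ⟨fun w hw g => by
    rw [mem_center_iff.1 (hNc hw) g, mul_inv_cancel_right]; exact hw⟩
  have hN2 : IsPGroup 2 N := (c.isPGroup_base.to_le hZB).comap_subtype
  -- the Sylow subgroup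
  let P : Sylow 2 ↥c.H :=
    { toSubgroup := c.e.base.subgroupOf c.H
      isPGroup' := c.isPGroup_base.comap_subtype
      is_maximal' := fun {Q} hQ hle => by
        have h := c.eq_base_of_le_H (hQ.map c.H.subtype)
          (fun g hg => ⟨⟨g, c.base_le_H hg⟩, hle hg, rfl⟩) (map_subtype_le _)
        ext x
        refine ⟨fun hx => ?_, fun hx => hle hx⟩
        exact (h ▸ mem_map_of_mem _ hx : (x : G) ∈ c.e.base) }
  let π := QuotientGroup.mk' N
  let Q : Sylow 2 (↥c.H ⧸ N) := P.mapSurjective (QuotientGroup.mk'_surjective N)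
  have hQ : normalizer (Q : Set (↥c.H ⧸ N)) ≤ centralizer (Q : Set (↥c.H ⧸ N)) := by
    intro q hq
    obtain ⟨g, rfl⟩ := QuotientGroup.mk'_surjective N q
    have hgn : g ∈ normalizer ((P : Subgroup ↥c.H) : Set ↥c.H) := by
      have hcm : ((Q : Subgroup (↥c.H ⧸ N))).comap π = (P : Subgroup ↥c.H) := by
        show ((P : Subgroup ↥c.H).map π).comap π = _
        rw [comap_map_eq, QuotientGroup.ker_mk', sup_eq_left]
        exact fun w hw => hZB hw
      refine mem_normalizer_iff.2 fun x => ?_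
      rw [← hcm, mem_comap, mem_comap, map_mul, map_mul, map_inv]
      exact mem_normalizer_iff.1 hq _
    have hgB : (g : G) ∈ c.e.base := by
      have hgn' : (g : G) ∈ normalizer (c.e.base : Set G) := by
        refine map_conj_eq_self_iff.1 (eq_of_le_of_card_ge ?_ (le_of_eq (card_map_conj _ _).symm))
        rintro _ ⟨w, hw, rfl⟩
        exact (mem_normalizer_iff.1 hgn ⟨w, c.base_le_H hw⟩).1 hw
      rw [c.normalizer_base] at hgn'
      exact c.syl_inf_H.le ⟨hgn', g.2⟩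
    rintro _ ⟨w, hw, rfl⟩
    rw [← map_mul, ← map_mul]
    show ((w * g : ↥c.H) : ↥c.H ⧸ N) = _
    refine QuotientGroup.eq.2 ?_
    obtain ⟨⟨x, y⟩, ⟨hx, hy⟩, hwe⟩ := (hw : (w : G) ∈ c.e.base)
    obtain ⟨⟨x', y'⟩, ⟨hx', hy'⟩, hge⟩ := hgB
    rw [Subgroup.coe_subtype] at hwe
    show ((w * g)⁻¹ * (g * w) : ↥c.H).1 ∈ Z
    push_cast
    rw [← hwe, ← hge, ← map_mul, ← map_mul, ← map_inv, ← map_mul]
    refine c.e.ι_mem_box.2 ⟨?_, ?_⟩
    · rcases comm_dih x' x hx' hx with h | h <;>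
        simp only [Prod.fst_mul, Prod.fst_inv]
      · rw [h, inv_mul_cancel]; exact one_mem _
      · rw [h, ← mul_assoc]
        have : (x * x')⁻¹ * z = z * (x * x')⁻¹ := mem_dih.1 (inv_mem (mul_mem hx hx'))
        rw [this, inv_mul_cancel_right]; exact mem_zpowers z
    · rcases comm_dih y' y hy' hy with h | h <;>
        simp only [Prod.snd_mul, Prod.snd_inv]
      · rw [h, inv_mul_cancel]; exact one_mem _
      · rw [h, ← mul_assoc]
        have : (y * y')⁻¹ * z = z * (y * y')⁻¹ := mem_dih.1 (inv_mem (mul_mem hy hy'))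
        rw [this, inv_mul_cancel_right]; exact mem_zpowers z
  have hq := hasNormalPComplement_of_normalizer_le_centralizer Q hQ
  obtain ⟨k, hk⟩ := hasNormalPComplement_iff_pPrimeCore.1 hq
  let J : Subgroup ↥c.H := (Cfsg.pPrimeCore 2 (↥c.H ⧸ N)).comap π
  have hJidx : J.index = 2 ^ k := by
    rw [index_comap_of_surjective _ (QuotientGroup.mk'_surjective N)]; exact hk
  refine hasNormalPComplement_of_normal_index (N := J) ?_ hJidx
  -- the extension of the odd core by the central group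
  have hNJ : N ≤ J := fun w hw => by
    refine mem_comap.2 ?_
    show π w ∈ Cfsg.pPrimeCore 2 (↥c.H ⧸ N)
    rw [QuotientGroup.mk'_apply, (QuotientGroup.eq_one_iff w).2 hw]
    exact one_mem _
  have hcard : Nat.card (N.subgroupOf J) = Nat.card N :=
    Nat.card_congr (subgroupOfEquivOfLe hNJ).toEquiv
  have hrel : ¬ 2 ∣ (N.subgroupOf J).index := by
    have h1 : Nat.card J = Nat.card (Cfsg.pPrimeCore 2 (↥c.H ⧸ N)) * Nat.card N := by
      rw [Cfsg.Agent.PLocal.Cores.card_comap_eq _ (QuotientGroup.mk'_surjective N),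
        QuotientGroup.ker_mk', mul_comm]
    have h2 := (N.subgroupOf J).card_mul_index
    rw [hcard, h1, mul_comm] at h2
    rw [Nat.eq_of_mul_eq_mul_right Nat.card_pos h2]
    exact Cfsg.Agent.PLocal.Cores.not_dvd_card_pPrimeCore (by norm_num)
  let S : Sylow 2 J := (hN2.comap_subtype (K := J)).toSylow hrel
  refine hasNormalPComplement_of_normalizer_le_centralizer S ?_
  intro g _ w hw
  exact Subtype.ext (mem_center_iff.1 (hNc hw) g).symm

/-- `C(z₀)`. -/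
abbrev C : Subgroup G := centralizer ({c.z0} : Set G)

theorem syl_le_C : c.e.syl ≤ c.C := by
  rintro g ⟨p, hp, rfl | rfl⟩
  · exact c.H_le_centralizer_z0 (c.base_le_H (c.e.mem_map.2 hp))
  · refine mul_mem (c.H_le_centralizer_z0 (c.base_le_H (c.e.mem_map.2 hp))) ?_
    rw [mem_centralizer_singleton_iff, c.e.s_mul]
    rfl

theorem z0_mem_pCoreOf_C : c.z0 ∈ Cfsg.pCoreOf 2 c.C := by
  have hz0 : zpowers c.z0 ≤ Cfsg.pCoreOf 2 c.C := by
    refine Cfsg.Agent.CharP.le_pCoreOf (zpowers_le.2 (mem_centralizer_singleton_iff.2 rfl)) ?_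
      (c.isPGroup_syl.to_le (zpowers_le.2 (c.e.mem_syl_iff.2 ⟨z_mem_dih, z_mem_dih⟩)))
    intro g hg
    refine map_conj_eq_self_iff.1 ?_
    rw [MonoidHom.map_zpowers]
    congr 1
    show g * c.z0 * g⁻¹ = c.z0
    rw [mem_centralizer_singleton_iff.1 hg, mul_inv_cancel_right]
  exact hz0 (mem_zpowers _)

theorem isCharP_C : Cfsg.Agent.CharP.IsCharP 2 c.C := by
  refine InvChar.EvenChar.charP_of_sylow_le c.ec c.T (c.hT.le.trans c.syl_le_C) fun h => ?_
  have h1 := c.z0_mem_pCoreOf_C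
  rw [h, mem_bot, ← map_one c.ι] at h1
  exact absurd (c.e.inj h1) (by decide)

theorem pCoreOf_C_le : Cfsg.pCoreOf 2 c.C ≤ c.e.syl := by
  haveI : Fact (Nat.Prime 2) := ⟨Nat.prime_two⟩
  have h := IsPGroup.to_sup_of_normal_left' (Cfsg.Agent.CharP.isPGroup_pCoreOf 2 c.C) c.isPGroup_syl
    (c.syl_le_C.trans (Cfsg.Agent.CharP.le_normalizer_pCoreOf 2 c.C))
  exact sup_eq_right.1 (c.syl_max h le_sup_right)

/-- The centraliser of `z₁` and `z₂` is `D₈ × D₈`. -/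
theorem H_eq : c.H = c.e.base := by
  haveI : Fact (Nat.Prime 2) := ⟨Nat.prime_two⟩
  obtain ⟨k, hk⟩ := hasNormalPComplement_iff_pPrimeCore.1 c.hasNormalPComplement_H
  set O : Subgroup G := (Cfsg.pPrimeCore 2 ↥c.H).map c.H.subtype with hOdef
  have hOT : c.e.syl ≤ normalizer (O : Set G) := by
    haveI := Cfsg.Agent.PLocal.Cores.pPrimeCore_characteristic (p := 2) (G := ↥c.H)
    refine Subgroup.le_normalizer_iff.2 fun g hg x hx => ?_
    obtain ⟨w, hw, rfl⟩ := hx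
    let φ : MulAut ↥c.H := normalizerMonoidHom c.H ⟨g, c.syl_le_normalizer_H hg⟩
    have h : φ w ∈ Cfsg.pPrimeCore 2 ↥c.H :=
      characteristic_iff_le_comap.1 inferInstance φ hw
    exact ⟨φ w, h, rfl⟩
  set C := c.C with hC
  set R := Cfsg.pCoreOf 2 C with hR
  have hcp : Cfsg.Agent.CharP.IsCharP 2 C := c.isCharP_C
  have hRT : R ≤ c.e.syl := c.pCoreOf_C_le
  have hOH : O ≤ c.H := map_subtype_le _
  have hco : (Nat.card O).Coprime (Nat.card R) := by
    obtain ⟨n, hn⟩ := (Cfsg.Agent.CharP.isPGroup_pCoreOf 2 C).exists_card_eq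
    rw [show Nat.card R = 2 ^ n from hn, hOdef, card_map_of_injective c.H.subtype_injective]
    exact Cfsg.Agent.PLocal.Cores.coprime_card_pPrimeCore.pow_right n
  have hO : O = ⊥ := by
    refine (Subgroup.eq_bot_iff_forall _).2 fun x hx => ?_
    have hxC : x ∈ C := c.H_le_centralizer_z0 (hOH hx)
    have hcen : x ∈ centralizer (R : Set G) := by
      intro r hr
      have h1 : x * r * x⁻¹ * r⁻¹ ∈ R := R.mul_mem
        (Subgroup.le_normalizer_iff.1 (Cfsg.Agent.CharP.le_normalizer_pCoreOf 2 C) x hxC r hr) (R.inv_mem hr)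
      have h2 : x * r * x⁻¹ * r⁻¹ ∈ O := by
        rw [mul_assoc, mul_assoc, ← mul_assoc r]
        exact O.mul_mem hx (Subgroup.le_normalizer_iff.1 hOT r (hRT hr) _ (O.inv_mem hx))
      have h3 : x * r * x⁻¹ * r⁻¹ ∈ O ⊓ R := ⟨h2, h1⟩
      rw [inf_eq_bot_of_coprime hco, mem_bot, mul_inv_eq_one, mul_inv_eq_iff_eq_mul] at h3
      exact h3.symm
    have : x ∈ O ⊓ R := ⟨hx, hcp ⟨hxC, hcen⟩⟩
    rwa [inf_eq_bot_of_coprime hco] at this
  refine c.eq_base_of_le_H ?_ c.base_le_H le_rfl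
  have hb : Cfsg.pPrimeCore 2 ↥c.H = ⊥ := by
    have h : (Cfsg.pPrimeCore 2 ↥c.H).map c.H.subtype = ⊥ := hOdef ▸ hO
    exact (map_eq_bot_iff_of_injective _ c.H.subtype_injective).1 h
  rw [hb, index_bot] at hk
  exact IsPGroup.of_card hk

theorem centralizer_KK : centralizer (c.KK : Set G) ≤ c.KK := by
  intro g hg
  have hH : g ∈ c.H := c.mem_H.2
    ⟨hg _ (c.e.ι_mem_box.2 ⟨z_mem_kay, one_mem _⟩), hg _ (c.e.ι_mem_box.2 ⟨one_mem _, z_mem_kay⟩)⟩
  rw [c.H_eq] at hH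
  obtain ⟨⟨x, y⟩, -, rfl⟩ := hH
  have h := hg (c.ι (k, k)) (c.e.ι_mem_box.2 ⟨k_mem_kay, k_mem_kay⟩)
  rw [← map_mul, ← map_mul] at h
  have h' := c.e.inj h
  exact c.e.ι_mem_box.2 ⟨mem_kay_of_comm x (congrArg Prod.fst h').symm,
    mem_kay_of_comm y (congrArg Prod.snd h').symm⟩

theorem centralizer_VK : centralizer (c.VK : Set G) ≤ c.VK := by
  intro g hg
  have hH : g ∈ c.H := c.mem_H.2
    ⟨hg _ (c.e.ι_mem_box.2 ⟨z_mem_four, one_mem _⟩), hg _ (c.e.ι_mem_box.2 ⟨one_mem _, z_mem_kay⟩)⟩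
  rw [c.H_eq] at hH
  obtain ⟨⟨x, y⟩, hp, rfl⟩ := hH
  have h := hg (c.ι (v, k)) (c.e.ι_mem_box.2 ⟨v_mem_four, k_mem_kay⟩)
  rw [← map_mul, ← map_mul] at h
  have h' := c.e.inj h
  exact c.e.ι_mem_box.2 ⟨mem_four_of_comm x hp.1 (congrArg Prod.fst h').symm,
    mem_kay_of_comm y (congrArg Prod.snd h').symm⟩

end Ctx

end Cfsg.Agent.S4Wr
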