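import Cfsg.Agent.Lib.S4Wr.Cent

/-!
The final contradiction: with an element of order three in `C(V₁)` permuting `⟨(1,z), (1,k)⟩` and fixing
`(k,z)`, the elements of order three of `C(V₁) ∩ C((r,1))` either give an elementary group of order 27 in a
2-local subgroup or force the two classes of involutions together.
-/

set_option autoImplicit false
set_option linter.unusedSectionVars false
set_option linter.style.haveILetI false

namespace Cfsg.Agent.S4Wr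

open Subgroup Cfsg.Agent.Transfer.Fusion

theorem endgame_facts : r * r * r = 1 ∧ r ≠ 1 ∧ r * z * r⁻¹ ≠ z ∧ k * k = 1 ∧
    v * k * v⁻¹ = z * k := by decide +kernel

theorem comm_all_four : ∀ a : P4, a * z = z * a → a * v = v * a → a ∈ four := by decide +kernel

variable {G : Type*} [Group G]

/-- A 2-subgroup maximal in `K` contains a conjugate of every 2-subgroup of `K`. -/
theorem exists_conj_mem_of_max [Finite G] {K D : Subgroup G} (hD : IsPGroup 2 D) (hDK : D ≤ K)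
    (hmax : ∀ P : Subgroup G, IsPGroup 2 P → P ≤ K → D ≤ P → P ≤ D)
    {Q : Subgroup G} (hQ : IsPGroup 2 Q) (hQK : Q ≤ K) : ∃ g ∈ K, ∀ q ∈ Q, g * q * g⁻¹ ∈ D := by
  haveI : Fact (Nat.Prime 2) := ⟨Nat.prime_two⟩
  obtain ⟨g, hg, R, hDR, hQR⟩ := exists_conj_le_sylow hD hDK hQ hQK
  refine ⟨g, hg, fun q hq => ?_⟩
  exact hmax ((R : Subgroup G) ⊓ K) (R.2.to_le inf_le_left) inf_le_right (le_inf hDR hDK)
    ⟨hQR ⟨q, hq, rfl⟩, K.mul_mem (K.mul_mem hg (hQK hq)) (K.inv_mem hg)⟩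

namespace Ctx

variable (c : Ctx G)

/-- `V₁`. -/
abbrev V1 : Subgroup G := c.e.box four ⊥

/-- `C(V₁)`. -/
abbrev C1 : Subgroup G := centralizer (c.V1 : Set G)

theorem mem_V1 {g : G} : g ∈ c.V1 ↔ ∃ a ∈ four, c.ι (a, 1) = g := by
  rw [c.e.mem_box]
  constructor
  · rintro ⟨x, hx, y, hy, rfl⟩
    rw [mem_bot.1 hy]
    exact ⟨x, hx, rfl⟩
  · rintro ⟨a, ha, rfl⟩
    exact ⟨a, ha, 1, one_mem _, rfl⟩

theorem ι_conj' (p q : P4 × P4) : c.ι p * c.ι q * (c.ι p)⁻¹ = c.ι (p * q * p⁻¹) := c.e.conj_ι p q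

theorem ι_mem_C1_iff {a b : P4} : c.ι (a, b) ∈ c.C1 ↔ a ∈ four := by
  rw [mem_centralizer_iff]
  constructor
  · intro h
    refine comm_all_four a ?_ ?_
    · have h1 := h _ (c.mem_V1.2 ⟨z, z_mem_four, rfl⟩)
      rw [← map_mul, ← map_mul] at h1
      exact (congrArg Prod.fst (c.e.inj h1)).symm
    · have h1 := h _ (c.mem_V1.2 ⟨v, v_mem_four, rfl⟩)
      rw [← map_mul, ← map_mul] at h1
      exact (congrArg Prod.fst (c.e.inj h1)).symm
  · intro ha g hg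
    obtain ⟨x, hx, rfl⟩ := c.mem_V1.1 hg
    rw [← map_mul, ← map_mul]
    exact congrArg _ (Prod.ext (comm_four x a hx ha) (by simp))

theorem conj_mem_V1 (p : P4 × P4) {g : G} (hg : g ∈ c.V1) : c.ι p * g * (c.ι p)⁻¹ ∈ c.V1 := by
  obtain ⟨x, hx, rfl⟩ := c.mem_V1.1 hg
  rw [c.ι_conj']
  exact c.mem_V1.2 ⟨_, four_conj p.1 x hx, congrArg _ (Prod.ext rfl (by simp))⟩

theorem conj_mem_C1 (p : P4 × P4) {g : G} (hg : g ∈ c.C1) : c.ι p * g * (c.ι p)⁻¹ ∈ c.C1 := by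
  refine mem_centralizer_iff.2 fun w hw => ?_
  have h1 := mem_centralizer_iff.1 hg _ (c.conj_mem_V1 p⁻¹ hw)
  rw [map_inv, inv_inv] at h1
  calc w * (c.ι p * g * (c.ι p)⁻¹) = c.ι p * ((c.ι p)⁻¹ * w * c.ι p * g) * (c.ι p)⁻¹ := by group
    _ = c.ι p * (g * ((c.ι p)⁻¹ * w * c.ι p)) * (c.ι p)⁻¹ := by rw [h1]
    _ = _ := by group

theorem comm_V1 {g a : G} (hg : g ∈ c.C1) (ha : a ∈ c.V1) : Commute g a :=
  (mem_centralizer_iff.1 hg a ha).symm

variable [Finite G]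

/-- The elements of `C(V₁)` acting trivially on `V₁ × kay` modulo `V₁` lie in it. -/
theorem stable_mem_VK {g : G} (hg : g ∈ c.C1) (h : ∀ x ∈ c.VK, g * x * g⁻¹ * x⁻¹ ∈ c.V1) :
    g ∈ c.VK := by
  haveI : Fact (Nat.Prime 2) := ⟨Nat.prime_two⟩
  have hV1VK : c.V1 ≤ c.VK := c.e.box_mono le_rfl bot_le
  have hcomm := (c.box_isE16 (Or.inl rfl) (Or.inr rfl)).2.1
  have hsq := (c.box_isE16 (Or.inl rfl) (Or.inr rfl)).2.2.1
  let U : Subgroup G :=
    { carrier := {u | u ∈ c.C1 ∧ ∀ x ∈ c.VK, u * x * u⁻¹ * x⁻¹ ∈ c.V1}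
      one_mem' := ⟨one_mem _, fun x _ => by simp⟩
      mul_mem' := fun {p q} hp hq => ⟨mul_mem hp.1 hq.1, fun x hx => by
        rw [show p * q * x * (p * q)⁻¹ * x⁻¹ = p * (q * x * q⁻¹ * x⁻¹) * p⁻¹ * (p * x * p⁻¹ * x⁻¹) by group,
          (c.comm_V1 hp.1 (hq.2 x hx)).eq, mul_inv_cancel_right]
        exact mul_mem (hq.2 x hx) (hp.2 x hx)⟩
      inv_mem' := fun {p} hp => ⟨inv_mem hp.1, fun x hx => by
        have h1 := hp.2 x hx
        have h2 := c.comm_V1 (inv_mem hp.1) h1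
        rw [show p⁻¹ * x * p⁻¹⁻¹ * x⁻¹ = p⁻¹ * (p * x * p⁻¹ * x⁻¹)⁻¹ * p⁻¹⁻¹ by group,
          h2.inv_right.eq, mul_inv_cancel_right]
        exact inv_mem h1⟩ }
  have hUsq : ∀ u ∈ U, u * u ∈ c.VK := fun u hu => c.centralizer_VK (mem_centralizer_iff.2 fun x hx => by
    have h1 := hu.2 x hx
    set a := u * x * u⁻¹ * x⁻¹ with ha
    have e : u * x * u⁻¹ = a * x := by rw [ha]; group
    have e2 : u * u * x * (u * u)⁻¹ = x := by
      calc u * u * x * (u * u)⁻¹ = u * (u * x * u⁻¹) * u⁻¹ := by group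
        _ = u * a * u⁻¹ * (u * x * u⁻¹) := by
            rw [show u * a * u⁻¹ * (u * x * u⁻¹) = u * (a * x) * u⁻¹ by group, ← e]
        _ = a * (a * x) := by rw [(c.comm_V1 hu.1 h1).eq, mul_inv_cancel_right, e]
        _ = x := by rw [← mul_assoc, hsq a (hV1VK h1), one_mul]
    exact (mul_inv_eq_iff_eq_mul.1 e2).symm)
  have hU2 : IsPGroup 2 U := fun u => ⟨2, Subtype.ext (by
    rw [SubgroupClass.coe_pow, OneMemClass.coe_one, show 2 ^ 2 = 2 * 2 by norm_num, pow_mul, pow_two,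
      pow_two]
    exact hsq _ (hUsq u u.2))⟩
  have hUN : U ≤ normalizer (c.VK : Set G) := fun u hu => Subgroup.mem_normalizer_fintype fun x hx => by
    rw [show u * x * u⁻¹ = u * x * u⁻¹ * x⁻¹ * x by group]
    exact mul_mem (hV1VK (hu.2 x hx)) hx
  have hBU : c.e.base ≤ normalizer (U : Set G) := fun b hb => Subgroup.mem_normalizer_fintype fun u hu => by
    obtain ⟨p, hp, rfl⟩ := hb
    refine ⟨c.conj_mem_C1 p hu.1, fun x hx => ?_⟩
    have hxb : (c.ι p)⁻¹ * x * c.ι p ∈ c.VK :=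
      (mem_normalizer_iff''.1 (c.base_normalizes_mixed (Or.inl rfl) (c.e.mem_map.2 hp)) x).1 hx
    rw [show c.ι p * u * (c.ι p)⁻¹ * x * (c.ι p * u * (c.ι p)⁻¹)⁻¹ * x⁻¹ =
      c.ι p * (u * ((c.ι p)⁻¹ * x * c.ι p) * u⁻¹ * ((c.ι p)⁻¹ * x * c.ι p)⁻¹) * (c.ι p)⁻¹ by group]
    exact c.conj_mem_V1 p (hu.2 _ hxb)
  have hsup := c.le_base_of_normalizes_mixed (Or.inl rfl) (hU2.to_sup_of_normal_left' c.isPGroup_base hBU)
    (sup_le hUN (c.base_normalizes_mixed (Or.inl rfl))) le_sup_right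
  obtain ⟨⟨a, b⟩, ⟨-, hb⟩, rfl⟩ : g ∈ c.e.base := hsup ▸ mem_sup_left (show g ∈ U from ⟨hg, h⟩)
  refine c.e.ι_mem_box.2 ⟨c.ι_mem_C1_iff.1 hg, mem_kay_of_comm b ?_⟩
  have h1 := h _ (c.e.ι_mem_box.2 ⟨one_mem _, k_mem_kay⟩ : c.ι (1, k) ∈ c.VK)
  rw [c.ι_conj', ← map_inv, ← map_mul] at h1
  obtain ⟨x, -, hx⟩ := c.mem_V1.1 h1
  have h2 := congrArg Prod.snd (c.e.inj hx)
  simp only [Prod.snd_mul, Prod.snd_inv] at h2
  exact mul_inv_eq_iff_eq_mul.1 (mul_inv_eq_one.1 h2.symm)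

/-- `V₁ × D₈` is a maximal 2-subgroup of `C(V₁)`. -/
theorem C1_max : ∀ P : Subgroup G, IsPGroup 2 P → P ≤ c.C1 → c.e.box four dih ≤ P →
    P ≤ c.e.box four dih := by
  haveI : Fact (Nat.Prime 2) := ⟨Nat.prime_two⟩
  intro P hP hPC hWP
  by_contra hne
  have hlt : c.e.box four dih < P := lt_of_le_of_ne hWP fun e => hne e.ge
  obtain ⟨y, ⟨hyP, hyN⟩, hyW⟩ := SetLike.exists_of_lt (Cfsg.Agent.Transfer.Frobenius.lt_inf_normalizer hP hlt)
  have hsub : ∀ {X : Subgroup P4}, X ≤ dih → ∀ g, g ∈ normalizer (c.e.box four dih : Set G) →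
      Ad g (c.e.box four X) ≤ c.e.syl := fun {X} hX g hg => by
    rintro _ ⟨x, hx, rfl⟩
    exact c.e.base_le_syl (c.e.box_mono four_le_dih le_rfl
      ((mem_normalizer_iff.1 hg x).1 (c.e.box_mono le_rfl hX hx)))
  have hVV := c.Ad_isE16 (c.box_isE16 (Or.inl rfl) (Or.inl rfl)) (hsub four_le_dih y hyN)
  have hsplit : ∀ {X : Subgroup P4}, X = kay → ∀ g, g ∈ normalizer (c.e.box four dih : Set G) →
      ¬ Ad g c.VV = c.e.box X X ∧ ¬ Ad g c.VV = c.e.box X four := by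
    intro X hX g hg
    have hmem : ∀ w ∈ Ad g c.VV, ∃ a ∈ four, ∃ b ∈ dih, c.ι (a, b) = w := fun w hw => by
      obtain ⟨x, hx, rfl⟩ := hw
      exact c.e.mem_box.1 ((mem_normalizer_iff.1 hg x).1 (c.e.box_mono le_rfl four_le_dih hx))
    constructor <;> intro e <;> subst hX
    · obtain ⟨a, ha, b, -, hab⟩ := hmem (c.ι (k, 1)) (e ▸ c.e.ι_mem_box.2 ⟨k_mem_kay, one_mem _⟩)
      replace hab := congrArg Prod.fst (c.e.inj hab)
      simp only at hab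
      rw [hab] at ha
      revert ha; decide +kernel
    · obtain ⟨a, ha, b, -, hab⟩ := hmem (c.ι (k, 1)) (e ▸ c.e.ι_mem_box.2 ⟨k_mem_kay, one_mem _⟩)
      replace hab := congrArg Prod.fst (c.e.inj hab)
      simp only at hab
      rw [hab] at ha
      revert ha; decide +kernel
  have hfix : Ad y c.VV = c.VV := by
    rcases c.E16_cases hVV with e | e | e | e
    · exact e
    · exact absurd e (hsplit rfl y hyN).1
    · exfalso
      refine c.VK_not_conj (X := c.VV) (Or.inl rfl) y⁻¹ (A := c.VK) (Or.inl rfl) ?_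
      rw [← e]; exact map_conj_inv_cancel _ _
    · exact absurd e (hsplit rfl y hyN).2
  have hywr : y ∈ c.e.wr := c.normalizer_VV ▸ map_conj_eq_self_iff.1 hfix
  obtain ⟨⟨a, b⟩, rfl | rfl⟩ := c.e.mem_wr.1 hywr
  · refine hyW (c.e.ι_mem_box.2 ⟨c.ι_mem_C1_iff.1 (hPC hyP), mem_dih_of_conj b ?_⟩)
    have h := (mem_normalizer_iff.1 hyN (c.ι (1, k))).1 (c.e.ι_mem_box.2 ⟨one_mem _, k_mem_dih⟩)
    rw [c.ι_conj'] at h
    exact (c.e.ι_mem_box.1 h).2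
  · have h := c.comm_V1 (hPC hyP) (c.mem_V1.2 ⟨z, z_mem_four, rfl⟩)
    have e1 : c.ι (a, b) * c.e.s * c.ι (z, 1) = c.ι ((a, b) * (1, z)) * c.e.s := by
      rw [mul_assoc, c.e.s_mul, ← mul_assoc, ← map_mul]; rfl
    rw [h.eq, ← mul_assoc, ← map_mul] at e1
    have h2 := congrArg Prod.snd (c.e.mul_s_inj e1)
    simp only [Prod.snd_mul, one_mul] at h2
    exact absurd (left_eq_mul.1 h2) (by decide)

/-- The contradiction. -/
theorem endgame (hk1 : c.IsA (c.ι (k, 1))) (hkz : c.IsB (c.ι (k, z)))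
    (ρ : G) (hρ : orderOf ρ = 3) (hρV : ρ ∈ centralizer (c.e.box four ⊥ : Set G))
    (hρx : ρ * c.ι (k, z) * ρ⁻¹ = c.ι (k, z))
    (hρ2 : ρ * c.ι (1, z) * ρ⁻¹ = c.ι (1, k)) (hρk : ρ * c.ι (1, k) * ρ⁻¹ = c.ι (1, z * k)) : False := by
  haveI : Fact (Nat.Prime 2) := ⟨Nat.prime_two⟩
  haveI : Fact (Nat.Prime 3) := ⟨Nat.prime_three⟩
  obtain ⟨hr3, hr1, hrz, hkk, hvk⟩ := endgame_facts
  have hρC : ρ ∈ c.C1 := hρV
  have hρ3 : ρ ^ 3 = 1 := by rw [← hρ]; exact pow_orderOf_eq_one ρ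
  have hρ1 : ρ ≠ 1 := fun e => by rw [e, orderOf_one] at hρ; norm_num at hρ
  set τ := c.ι (1, r) with hτ
  set σ := c.ι (r, 1) with hσ
  have hτ3 : τ ^ 3 = 1 := by
    rw [hτ, ← map_pow, ← map_one c.ι]; congr 1
    simp only [pow_succ, pow_zero, one_mul]; exact Prod.ext (by simp) hr3
  have hσ3 : σ ^ 3 = 1 := by
    rw [hσ, ← map_pow, ← map_one c.ι]; congr 1
    simp only [pow_succ, pow_zero, one_mul]; exact Prod.ext hr3 (by simp)
  have hτ1 : τ ≠ 1 := fun e => hr1 (congrArg Prod.snd (c.e.inj (e.trans (map_one c.ι).symm)))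
  have hτC : τ ∈ c.C1 := c.ι_mem_C1_iff.2 (one_mem _)
  -- (a) `σ` commutes with `ρ`
  have hρV1 : ∀ a ∈ c.V1, ρ * a * ρ⁻¹ = a := fun a ha => by
    rw [(c.comm_V1 hρC ha).eq, mul_inv_cancel_right]
  have hV1VK : c.V1 ≤ c.VK := c.e.box_mono le_rfl bot_le
  have hkay : ∀ y ∈ kay, ρ * c.ι (1, y) * ρ⁻¹ ∈ c.VK := by
    intro y hy
    rcases mem_kay.1 hy with rfl | rfl | rfl | rfl
    · rw [show c.ι ((1 : P4), (1 : P4)) = 1 from map_one c.ι, mul_one, mul_inv_cancel]; exact one_mem _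
    · rw [hρ2]; exact c.e.ι_mem_box.2 ⟨one_mem _, k_mem_kay⟩
    · rw [hρk]; exact c.e.ι_mem_box.2 ⟨one_mem _, mul_mem z_mem_kay k_mem_kay⟩
    · have hzk : c.ι ((1 : P4), z * k) = c.ι (1, z) * c.ι (1, k) := by
        rw [← map_mul]; rfl
      rw [hzk, show ρ * (c.ι (1, z) * c.ι (1, k)) * ρ⁻¹ = ρ * c.ι (1, z) * ρ⁻¹ * (ρ * c.ι (1, k) * ρ⁻¹) by group,
        hρ2, hρk, ← map_mul]
      exact c.e.ι_mem_box.2 ⟨by simp, mul_mem k_mem_kay (mul_mem z_mem_kay k_mem_kay)⟩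
  have hρVK : ρ ∈ normalizer (c.VK : Set G) := Subgroup.mem_normalizer_fintype fun g hg => by
    obtain ⟨x, hx, y, hy, rfl⟩ := c.e.mem_box.1 hg
    have e : c.ι (x, y) = c.ι (x, 1) * c.ι (1, y) := by rw [← map_mul]; simp
    rw [SetLike.mem_coe, show c.e.ι (x, y) = c.ι (x, 1) * c.ι (1, y) from e,
      show ρ * (c.ι (x, 1) * c.ι (1, y)) * ρ⁻¹ = ρ * c.ι (x, 1) * ρ⁻¹ * (ρ * c.ι (1, y) * ρ⁻¹) by group,
      hρV1 _ (c.mem_V1.2 ⟨x, hx, rfl⟩)]
    exact mul_mem (hV1VK (c.mem_V1.2 ⟨x, hx, rfl⟩)) (hkay y hy)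
  have hσC1 : ∀ g ∈ c.C1, σ * g * σ⁻¹ ∈ c.C1 := fun g hg => c.conj_mem_C1 _ hg
  have hσmod : ∀ w ∈ c.VK, σ * w * σ⁻¹ * w⁻¹ ∈ c.V1 ∧ σ⁻¹ * w * σ * w⁻¹ ∈ c.V1 := by
    intro w hw
    obtain ⟨x, hx, y, hy, rfl⟩ := c.e.mem_box.1 hw
    constructor
    · rw [hσ, c.ι_conj', ← map_inv, ← map_mul]
      exact c.mem_V1.2 ⟨_, mul_mem (four_conj r x hx) (inv_mem hx), congrArg _ (Prod.ext rfl (by simp))⟩
    · have e : σ⁻¹ = c.ι (r⁻¹, 1) := by rw [hσ, ← map_inv]; simp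
      rw [show σ⁻¹ * c.e.ι (x, y) * σ = σ⁻¹ * c.e.ι (x, y) * σ⁻¹⁻¹ by rw [inv_inv], e, c.ι_conj', ← map_inv, ← map_mul]
      exact c.mem_V1.2 ⟨_, mul_mem (four_conj r⁻¹ x hx) (inv_mem hx), congrArg _ (Prod.ext rfl (by simp))⟩
  set e := ρ⁻¹ * (σ * ρ * σ⁻¹) with he
  have heC : e ∈ c.C1 := mul_mem (inv_mem hρC) (hσC1 ρ hρC)
  have heVK : e ∈ c.VK := c.stable_mem_VK heC fun w hw => by
    have h1 := (hσmod w hw).2
    set a := σ⁻¹ * w * σ * w⁻¹ with ha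
    set w' := ρ * w * ρ⁻¹ with hw'
    have hw'V : w' ∈ c.VK := (mem_normalizer_iff.1 hρVK w).1 hw
    have h2 := (hσmod w' hw'V).1
    set b := σ * w' * σ⁻¹ * w'⁻¹ with hb
    have h3 : σ * a * σ⁻¹ ∈ c.V1 := c.conj_mem_V1 _ h1
    have hρi : ∀ q ∈ c.V1, ρ⁻¹ * q * ρ = q := fun q hq => by
      rw [mul_assoc, ← (c.comm_V1 hρC hq).eq, inv_mul_cancel_left]
    rw [show e * w * e⁻¹ * w⁻¹ = ρ⁻¹ * (σ * (ρ * (σ⁻¹ * w * σ) * ρ⁻¹) * σ⁻¹) * ρ * w⁻¹ by rw [he]; group,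
      show σ⁻¹ * w * σ = a * w by rw [ha]; group,
      show ρ * (a * w) * ρ⁻¹ = ρ * a * ρ⁻¹ * w' by rw [hw']; group, hρV1 a h1,
      show σ * (a * w') * σ⁻¹ = σ * a * σ⁻¹ * b * w' by rw [hb]; group,
      show ρ⁻¹ * (σ * a * σ⁻¹ * b * w') * ρ = ρ⁻¹ * (σ * a * σ⁻¹ * b) * ρ * (ρ⁻¹ * w' * ρ) by group,
      hρi _ (mul_mem h3 h2), show ρ⁻¹ * w' * ρ = w by rw [hw']; group, mul_inv_cancel_right]
    exact mul_mem h3 h2
  have hconj : σ * ρ * σ⁻¹ = ρ * e := by rw [he, mul_inv_cancel_left]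
  have heV1 : e ∈ c.V1 := by
    obtain ⟨a, ha, b, hb, hab⟩ := c.e.mem_box.1 heVK
    have h2 : σ * (σ * (σ * ρ * σ⁻¹) * σ⁻¹) * σ⁻¹ = ρ := by
      calc σ * (σ * (σ * ρ * σ⁻¹) * σ⁻¹) * σ⁻¹ = σ ^ 3 * ρ * (σ ^ 3)⁻¹ := by
            simp only [pow_succ, pow_zero, one_mul]; group
        _ = ρ := by rw [hσ3]; group
    rw [hconj, show σ * (ρ * e) * σ⁻¹ = σ * ρ * σ⁻¹ * (σ * e * σ⁻¹) by group, hconj,
      show σ * (ρ * e * (σ * e * σ⁻¹)) * σ⁻¹ = σ * ρ * σ⁻¹ * (σ * e * σ⁻¹) * (σ * (σ * e * σ⁻¹) * σ⁻¹) by group,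
      hconj, mul_assoc ρ, mul_assoc ρ, mul_eq_left, ← hab, hσ, c.ι_conj', c.ι_conj', ← map_mul, ← map_mul,
      ← map_one c.ι] at h2
    have hb3 := congrArg Prod.snd (c.e.inj h2)
    simp only [Prod.snd_mul, one_mul, mul_one, Prod.snd_inv, Prod.snd_one, inv_one] at hb3
    rw [sq_kay b hb, one_mul] at hb3
    exact c.mem_V1.2 ⟨a, ha, by rw [← hb3]; exact hab⟩
  have he1 : e = 1 := by
    have h3 : (ρ * e) ^ 3 = 1 := by rw [← hconj, conj_pow, hρ3, mul_one, mul_inv_cancel]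
    rw [(c.comm_V1 hρC heV1).mul_pow, hρ3, one_mul] at h3
    have h2 := (c.box_isE16 (Or.inl rfl) (Or.inr rfl)).2.2.1 e heVK
    rw [pow_succ, pow_two, h2, one_mul] at h3
    exact h3
  have hσρ : Commute σ ρ := mul_inv_eq_iff_eq_mul.1 (by rw [hconj, he1, mul_one])
  -- (b) a conjugate of `ρ` in `C(V₁) ∩ C(σ)` is `τ` or its inverse
  set F : Subgroup G := c.C1 ⊓ centralizer ({σ} : Set G) with hF
  have hτF : τ ∈ F := ⟨hτC, mem_centralizer_singleton_iff.2 (by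
    rw [hτ, hσ, ← map_mul, ← map_mul]; exact congrArg _ (Prod.ext (by simp) (by simp)))⟩
  have hρF : ρ ∈ F := ⟨hρC, mem_centralizer_singleton_iff.2 hσρ.symm.eq⟩
  have hσnot : σ ∉ c.C1 := fun h => hrz (by
    have h1 := c.comm_V1 h (c.mem_V1.2 ⟨z, z_mem_four, rfl⟩)
    rw [hσ] at h1
    have h2 := congrArg Prod.fst (c.e.inj ((map_mul c.ι _ _).trans (h1.eq.trans (map_mul c.ι _ _).symm)))
    simp only [Prod.fst_mul] at h2
    rw [h2, mul_inv_cancel_right])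
  have hline : ∀ a b : G, a ∈ F → b ∈ F → a ^ 3 = 1 → b ^ 3 = 1 → a ≠ 1 → Commute a b →
      b ∈ zpowers a := by
    intro a b ha hb ha3 hb3 ha1 hab
    by_contra hnot
    set A : Subgroup G := closure {σ, a, b} with hA
    have hac : Commute σ a := (mem_centralizer_singleton_iff.1 ha.2).symm
    have hbc : Commute σ b := (mem_centralizer_singleton_iff.1 hb.2).symm
    have hAc : A ≤ centralizer (A : Set G) := by
      rw [hA, centralizer_closure, closure_le]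
      rintro g (rfl | rfl | rfl) <;>
        refine mem_centralizer_iff.2 ?_ <;> rintro h (rfl | rfl | rfl)
      exacts [rfl, hac.symm.eq, hbc.symm.eq, hac.eq, rfl, hab.symm.eq, hbc.eq, hab.eq, rfl]
    have hA3 : ∀ g ∈ A, g ^ 3 = 1 := fun g hg => by
      rw [hA] at hg
      induction hg using closure_induction with
      | mem g hg => rcases hg with rfl | rfl | rfl; exacts [hσ3, ha3, hb3]
      | one => exact one_pow 3
      | mul p q hp hq ihp ihq =>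
        rw [(show Commute p q from mem_centralizer_iff.1 (hAc (hA ▸ hq)) p (hA ▸ hp)).mul_pow, ihp, ihq, one_mul]
      | inv p hp ih => rw [inv_pow, ih, inv_one]
    have hAN : A ≤ normalizer (c.V1 : Set G) := by
      rw [hA, closure_le]
      rintro g (rfl | rfl | rfl)
      · exact Subgroup.mem_normalizer_fintype fun w hw => c.conj_mem_V1 _ hw
      · exact centralizer_le_normalizer _ ha.1
      · exact centralizer_le_normalizer _ hb.1
    have hV1 : c.V1 ≠ ⊥ := fun h => by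
      have h1 : c.ι (z, 1) ∈ c.V1 := c.mem_V1.2 ⟨z, z_mem_four, rfl⟩
      rw [h, mem_bot, ← map_one c.ι] at h1
      exact absurd (congrArg Prod.fst (c.e.inj h1)) (by decide)
    have hle : Nat.card A ≤ 9 := by
      haveI : IsMulCommutative ↥(A.subgroupOf (normalizer (c.V1 : Set G))) :=
        ⟨⟨fun p q => Subtype.ext (Subtype.ext
          (mem_centralizer_iff.1 (hAc (mem_subgroupOf.1 q.2)) _ (mem_subgroupOf.1 p.2)))⟩⟩
      have h := c.qt 3 Nat.prime_three (by norm_num) (normalizer (c.V1 : Set G))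
        ⟨c.V1, c.isPGroup_base.to_le (c.e.box_mono four_le_dih bot_le), hV1, rfl⟩
        (A.subgroupOf (normalizer (c.V1 : Set G))) inferInstance
        (fun p hp => Subtype.ext (hA3 _ (mem_subgroupOf.1 hp)))
      rwa [Nat.card_congr (subgroupOfEquivOfLe hAN).toEquiv] at h
    set B : Subgroup G := zpowers a ⊔ zpowers b with hB
    have hBC : B ≤ c.C1 := sup_le (zpowers_le.2 ha.1) (zpowers_le.2 hb.1)
    have h3 : Nat.card (zpowers a) = 3 := by rw [Nat.card_zpowers, orderOf_eq_prime ha3 ha1]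
    have hab' : zpowers a < B := lt_of_le_of_ne le_sup_left fun e =>
      hnot (e ▸ mem_sup_right (mem_zpowers b))
    have hBA : B < A := lt_of_le_of_ne
      (sup_le (zpowers_le.2 (subset_closure (by simp))) (zpowers_le.2 (subset_closure (by simp))))
      fun e => hσnot (hBC (e ▸ subset_closure (by simp)))
    have hgrow : ∀ {X Y : Subgroup G}, X < Y → 2 * Nat.card X ≤ Nat.card Y := fun {X Y} h => by
      obtain ⟨m, hm⟩ := card_dvd_of_le h.le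
      rcases Nat.lt_or_ge m 2 with hm2 | hm2
      · exfalso
        interval_cases m
        · exact Nat.card_pos.ne' (by simpa using hm)
        · exact h.ne (eq_of_le_of_card_ge h.le (by omega))
      · rw [hm, mul_comm 2]; exact Nat.mul_le_mul_left _ hm2
    have := hgrow hab'
    have := hgrow hBA
    omega
  obtain ⟨g, hg, R, hτR, hρR⟩ := exists_conj_le_sylow (p := 3)
    (IsPGroup.of_card (n := 1) (show Nat.card (zpowers τ) = 3 ^ 1 by
      rw [Nat.card_zpowers, orderOf_eq_prime hτ3 hτ1, pow_one])) (zpowers_le.2 hτF)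
    (IsPGroup.of_card (n := 1) (show Nat.card (zpowers ρ) = 3 ^ 1 by
      rw [Nat.card_zpowers, hρ, pow_one])) (zpowers_le.2 hρF)
  set ρ' := g * ρ * g⁻¹ with hρ'
  have hρ'3 : ρ' ^ 3 = 1 := by rw [hρ', conj_pow, hρ3, mul_one, mul_inv_cancel]
  have hρ'1 : ρ' ≠ 1 := fun h => hρ1 (conj_eq_one_iff.1 h)
  have hρ'F : ρ' ∈ F := mul_mem (mul_mem hg hρF) (inv_mem hg)
  have hρ'τ : ρ' ∈ zpowers τ := by
    set P : Subgroup G := (R : Subgroup G) ⊓ F with hP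
    have hτP : τ ∈ P := ⟨hτR (mem_zpowers τ), hτF⟩
    have hρP : ρ' ∈ P := ⟨hρR ⟨ρ, mem_zpowers ρ, rfl⟩, hρ'F⟩
    haveI : Nontrivial ↥P := ⟨⟨⟨τ, hτP⟩, 1, fun h => hτ1 (congrArg Subtype.val h)⟩⟩
    haveI := IsPGroup.center_nontrivial (R.2.to_le (inf_le_left : P ≤ R))
    obtain ⟨⟨w₀, hw₀⟩, hw₀1⟩ := exists_ne (1 : ↥(center ↥P))
    obtain ⟨m, hm⟩ := (R.2.to_le (inf_le_left : P ≤ R)).exists_card_eq
    obtain ⟨j, -, hj⟩ := (Nat.dvd_prime_pow Nat.prime_three).1 (hm ▸ orderOf_dvd_natCard w₀)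
    have hj0 : j ≠ 0 := fun h => hw₀1 (Subtype.ext (orderOf_eq_one_iff.1 (by rw [hj, h, pow_zero])))
    obtain ⟨w, hwdef⟩ : ∃ w, w = w₀ ^ 3 ^ (j - 1) := ⟨_, rfl⟩
    have hw3 : orderOf w = 3 := by
      rw [hwdef, orderOf_pow' w₀ (pow_ne_zero _ (by norm_num)), hj,
        Nat.gcd_eq_right (pow_dvd_pow 3 (by omega)), Nat.pow_div (by omega) (by norm_num),
        show j - (j - 1) = 1 by omega, pow_one]
    have hwc : ∀ p ∈ P, Commute (w : G) p := fun p hp => by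
      have hw' : w ∈ center ↥P := hwdef ▸ pow_mem hw₀ _
      exact (congrArg Subtype.val (mem_center_iff.1 hw' ⟨p, hp⟩)).symm
    have hw3' : (w : G) ^ 3 = 1 := by rw [← hw3, ← Subgroup.orderOf_coe]; exact pow_orderOf_eq_one _
    have hw1 : (w : G) ≠ 1 := fun h => by
      rw [← Subgroup.orderOf_coe, h, orderOf_one] at hw3
      norm_num at hw3
    have hτw := hline _ _ w.2.2 hτF hw3' hτ3 hw1 (hwc τ hτP)
    have hρw := hline _ _ w.2.2 hρ'F hw3' hρ'3 hw1 (hwc ρ' hρP)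
    have heq : zpowers τ = zpowers (w : G) := eq_of_le_of_card_ge (zpowers_le.2 hτw) (by
      rw [Nat.card_zpowers, Nat.card_zpowers, orderOf_eq_prime hτ3 hτ1, Subgroup.orderOf_coe, hw3])
    exact heq ▸ hρw
  -- (c) the 2-elements of `C(V₁) ∩ C(τ)` lie in `V₁`
  set J : Subgroup G := c.C1 ⊓ centralizer ({τ} : Set G) with hJ
  have hclass : ∀ b : P4, b ∈ dih → b * b = 1 → b ≠ 1 → ∃ h ∈ c.C1, h * c.ι (1, b) * h⁻¹ = c.ι (1, z) := by
    intro b hb hbb hb1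
    rcases invol_dih b hb hbb with h4 | h4
    · obtain ⟨a, rfl⟩ := four_class b h4 hb1
      refine ⟨c.ι (1, a⁻¹), c.ι_mem_C1_iff.2 (one_mem _), ?_⟩
      rw [c.ι_conj']
      congr 1
      exact Prod.ext (by simp) (by simp [mul_assoc])
    · rcases mem_kay.1 h4 with rfl | rfl | rfl | rfl
      · exact absurd rfl hb1
      · exact ⟨1, one_mem _, by group⟩
      · exact ⟨ρ⁻¹, inv_mem hρC, by rw [← hρ2]; group⟩
      · exact ⟨ρ⁻¹ * ρ⁻¹, mul_mem (inv_mem hρC) (inv_mem hρC), by rw [← hρk, ← hρ2]; group⟩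
  have hJ2 : ∀ Q : Subgroup G, IsPGroup 2 Q → Q ≤ J → Q ≤ c.V1 := by
    intro Q hQ hQJ
    obtain ⟨h, hh, hhQ⟩ := exists_conj_mem_of_max
      (c.isPGroup_base.to_le (c.e.box_mono four_le_dih le_rfl))
      (fun w hw => by
        obtain ⟨x, hx, y, -, rfl⟩ := c.e.mem_box.1 hw
        exact c.ι_mem_C1_iff.2 hx)
      c.C1_max hQ (hQJ.trans inf_le_left)
    intro q hq
    obtain ⟨a, ha, b, hb, hab⟩ := c.e.mem_box.1 (hhQ q hq)
    by_cases hb1 : b = 1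
    · subst hb1
      have hmem : h * q * h⁻¹ ∈ c.V1 := hab ▸ c.mem_V1.2 ⟨a, ha, rfl⟩
      have h2 := (c.comm_V1 (inv_mem hh) hmem).eq
      rwa [show q = h⁻¹ * (h * q * h⁻¹) * h⁻¹⁻¹ by group, h2, mul_inv_cancel_right]
    exfalso
    set τ' := h * τ * h⁻¹ with hτ'
    have hτ'C : τ' ∈ c.C1 := mul_mem (mul_mem hh hτC) (inv_mem hh)
    have hcq : Commute τ' (c.ι (a, b)) := by
      rw [show c.ι (a, b) = h * q * h⁻¹ from hab]
      show h * τ * h⁻¹ * (h * q * h⁻¹) = h * q * h⁻¹ * (h * τ * h⁻¹)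
      rw [show h * τ * h⁻¹ * (h * q * h⁻¹) = h * (τ * q) * h⁻¹ by group,
        ← mem_centralizer_singleton_iff.1 (hQJ hq).2]
      group
    obtain ⟨d, hd, hdd, hd1, hdc⟩ : ∃ d, d ∈ dih ∧ d * d = 1 ∧ d ≠ 1 ∧ Commute τ' (c.ι (1, d)) := by
      rcases sq_dih b hb with hbb | hbb
      · refine ⟨b, hb, hbb, hb1, ?_⟩
        have h1 := (c.comm_V1 hτ'C (c.mem_V1.2 ⟨a, ha, rfl⟩ : c.ι (a, 1) ∈ c.V1)).inv_right.mul_right hcq
        rwa [show (c.ι (a, 1))⁻¹ * c.ι (a, b) = c.ι (1, b) by rw [← map_inv, ← map_mul]; simp] at h1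
      · refine ⟨z, z_mem_dih, z_mul_z, by decide, ?_⟩
        have h1 := hcq.mul_right hcq
        rwa [← map_mul, show ((a, b) * (a, b) : P4 × P4) = (1, z) from Prod.ext (sq_four a ha) hbb] at h1
    obtain ⟨h', hh', hconj'⟩ := hclass d hd hdd hd1
    set τ'' := h' * τ' * h'⁻¹ with hτ''
    have hτ''C : τ'' ∈ c.C1 := mul_mem (mul_mem hh' hτ'C) (inv_mem hh')
    have h2 : Commute τ'' (c.ι (1, z)) := by
      rw [← hconj']
      show h' * τ' * h'⁻¹ * (h' * c.ι (1, d) * h'⁻¹) = h' * c.ι (1, d) * h'⁻¹ * (h' * τ' * h'⁻¹)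
      rw [show h' * τ' * h'⁻¹ * (h' * c.ι (1, d) * h'⁻¹) = h' * (τ' * c.ι (1, d)) * h'⁻¹ by group, hdc.eq]
      group
    have hH : τ'' ∈ c.H :=
      c.mem_H.2 ⟨(c.comm_V1 hτ''C (c.mem_V1.2 ⟨z, z_mem_four, rfl⟩)).symm.eq, h2.symm.eq⟩
    rw [c.H_eq] at hH
    obtain ⟨n, hn⟩ := c.isPGroup_base ⟨τ'', hH⟩
    have hn' : τ'' ^ 2 ^ n = 1 := congrArg Subtype.val hn
    have h3 : τ'' ^ 3 = 1 := by rw [hτ'', hτ', conj_pow, conj_pow, hτ3]; group
    have h1 : τ'' ≠ 1 := fun e => hτ1 (conj_eq_one_iff.1 (conj_eq_one_iff.1 e))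
    have hd3 := orderOf_dvd_of_pow_eq_one hn'
    rw [orderOf_eq_prime h3 h1] at hd3
    exact absurd (Nat.prime_three.dvd_of_dvd_pow hd3) (by norm_num)
  -- (d) the two classes meet
  set k1 := c.ι (k, 1) with hk1def
  have hk1sq : k1 * k1 = 1 := by rw [hk1def, ← map_mul, ← map_one c.ι]; exact congrArg _ (Prod.ext hkk (by simp))
  have hk1i : k1⁻¹ = k1 := inv_eq_of_mul_eq_one_right hk1sq
  have hk1τ : Commute k1 τ := by
    show k1 * τ = τ * k1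
    rw [hk1def, hτ, ← map_mul, ← map_mul]; exact congrArg _ (Prod.ext (by simp) (by simp))
  have hJconj : ∀ q ∈ J, k1 * q * k1 ∈ J := by
    intro q hq
    refine ⟨?_, mem_centralizer_singleton_iff.2 ?_⟩
    · have := c.conj_mem_C1 (k, 1) hq.1
      rwa [← hk1def, hk1i] at this
    · exact ((hk1τ.mul_left (mem_centralizer_singleton_iff.1 hq.2)).mul_left hk1τ).eq
  let U2 : Subgroup G :=
    { carrier := {u | u ∈ J ∨ k1 * u ∈ J}
      one_mem' := Or.inl (one_mem J)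
      mul_mem' := fun {p q} hp hq => by
        rcases hp with hp | hp <;> rcases hq with hq | hq
        · exact Or.inl (mul_mem hp hq)
        · refine Or.inr ?_
          have := mul_mem (hJconj p hp) hq
          rwa [show k1 * p * k1 * (k1 * q) = k1 * p * (k1 * k1) * q by group, hk1sq, mul_one, mul_assoc] at this
        · exact Or.inr (by rw [← mul_assoc]; exact mul_mem hp hq)
        · refine Or.inl ?_
          have := mul_mem (hJconj _ hp) hq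
          rwa [show k1 * (k1 * p) * k1 * (k1 * q) = k1 * k1 * p * (k1 * k1) * q by group, hk1sq, one_mul,
            mul_one] at this
      inv_mem' := fun {p} hp => by
        rcases hp with hp | hp
        · exact Or.inl (inv_mem hp)
        · refine Or.inr ?_
          have := hJconj _ (inv_mem hp)
          rwa [mul_inv_rev, hk1i, mul_assoc, mul_assoc, hk1sq, mul_one] at this }
  set D := c.e.box dih ⊥ with hD
  have hV1D : c.V1 ≤ D := c.e.box_mono four_le_dih le_rfl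
  have hV1J : c.V1 ≤ J := fun w hw => by
    obtain ⟨a, ha, rfl⟩ := c.mem_V1.1 hw
    refine ⟨c.ι_mem_C1_iff.2 ha, mem_centralizer_singleton_iff.2 ?_⟩
    rw [hτ, ← map_mul, ← map_mul]; exact congrArg _ (Prod.ext (by simp) (by simp))
  have hk1D : k1 ∈ D := c.e.ι_mem_box.2 ⟨k_mem_dih, one_mem _⟩
  have hDU : D ≤ U2 := by
    intro w hw
    obtain ⟨a, ha, b, hb, rfl⟩ := c.e.mem_box.1 hw
    rw [mem_bot.1 hb]
    have hsplit : a ∈ four ∨ k * a ∈ four := (by decide +kernel : ∀ a : P4, a ∈ dih → a ∈ four ∨ k * a ∈ four) a ha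
    rcases hsplit with h4 | h4
    · exact Or.inl (hV1J (c.mem_V1.2 ⟨a, h4, rfl⟩))
    · refine Or.inr ?_
      rw [hk1def, ← map_mul, show ((k, (1 : P4)) * (a, 1) : P4 × P4) = (k * a, 1) by simp]
      exact hV1J (c.mem_V1.2 ⟨k * a, h4, rfl⟩)
  have hDmax : ∀ P : Subgroup G, IsPGroup 2 P → P ≤ U2 → D ≤ P → P ≤ D := by
    intro P hP hPU hDP p hp
    have hPJ : P ⊓ J ≤ c.V1 := hJ2 _ (hP.to_le inf_le_left) inf_le_right
    rcases hPU hp with h | h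
    · exact hV1D (hPJ ⟨hp, h⟩)
    · have := mul_mem hk1D (hV1D (hPJ ⟨mul_mem (hDP hk1D) hp, h⟩))
      rwa [← mul_assoc, hk1sq, one_mul] at this
  obtain ⟨u, hu⟩ : ∃ g' : G, g' ∈ c.C1 ∧ Commute (g' * c.ι (k, z) * g'⁻¹) τ := by
    refine ⟨g, hg.1, ?_⟩
    have hcx : Commute (g * c.ι (k, z) * g⁻¹) ρ' := by
      show g * c.ι (k, z) * g⁻¹ * (g * ρ * g⁻¹) = g * ρ * g⁻¹ * (g * c.ι (k, z) * g⁻¹)
      have hc0 : ρ * c.ι (k, z) = c.ι (k, z) * ρ := mul_inv_eq_iff_eq_mul.1 hρx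
      rw [show g * c.ι (k, z) * g⁻¹ * (g * ρ * g⁻¹) = g * (c.ι (k, z) * ρ) * g⁻¹ by group, ← hc0]
      group
    obtain ⟨i, hi⟩ := mem_zpowers_iff.1 hρ'τ
    have heq : zpowers ρ' = zpowers τ := eq_of_le_of_card_ge (zpowers_le.2 hρ'τ) (by
      rw [Nat.card_zpowers, Nat.card_zpowers, orderOf_eq_prime hρ'3 hρ'1, orderOf_eq_prime hτ3 hτ1])
    obtain ⟨l, hl⟩ := mem_zpowers_iff.1 (heq.ge (mem_zpowers τ))
    rw [← hl]
    exact hcx.zpow_right l
  set x := u * c.ι (k, z) * u⁻¹ with hxdef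
  have hxB : c.IsB x := c.isB_conj hkz u
  have hxU : x ∈ U2 := by
    refine Or.inr ⟨?_, mem_centralizer_singleton_iff.2 (hk1τ.mul_left hu.2).eq⟩
    have h1 : c.ι (k, z) = k1 * c.ι (1, z) := by rw [hk1def, ← map_mul]; simp
    have h2 := c.conj_mem_C1 (k, 1) hu.1
    rw [← hk1def, hk1i] at h2
    rw [hxdef, h1, show k1 * (u * (k1 * c.ι (1, z)) * u⁻¹) = k1 * u * k1 * c.ι (1, z) * u⁻¹ by group]
    exact c.C1.mul_mem (c.C1.mul_mem h2 (c.ι_mem_C1_iff.2 (one_mem four))) (c.C1.inv_mem hu.1)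
  have hxx : x * x = 1 := by
    have h0 : c.ι (k, z) * c.ι (k, z) = 1 := by
      rw [← map_mul, ← map_one c.ι]; exact congrArg _ (Prod.ext hkk z_mul_z)
    rw [hxdef, show u * c.ι (k, z) * u⁻¹ * (u * c.ι (k, z) * u⁻¹) = u * (c.ι (k, z) * c.ι (k, z)) * u⁻¹ by group,
      h0]
    group
  obtain ⟨w, -, hw⟩ := exists_conj_mem_of_max (c.isPGroup_base.to_le (c.e.box_mono le_rfl bot_le))
    hDU hDmax (Q := zpowers x) (fun q => ⟨1, by
      obtain ⟨i, hi⟩ := mem_zpowers_iff.1 q.2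
      refine Subtype.ext ?_
      rw [SubgroupClass.coe_pow, OneMemClass.coe_one, pow_one, ← hi, pow_two, ← (Commute.refl x).mul_zpow, hxx,
        one_zpow]⟩)
    (zpowers_le.2 hxU)
  obtain ⟨d, hd, d', hd', hdx⟩ := c.e.mem_box.1 (hw x (mem_zpowers x))
  rw [mem_bot.1 hd'] at hdx
  have hB : c.IsB (c.ι (d, 1)) := hdx ▸ c.isB_conj hxB w
  have hx1 : x ≠ 1 := fun h => by
    have := conj_eq_one_iff.1 h
    rw [← map_one c.ι] at this
    exact absurd (congrArg Prod.snd (c.e.inj this)) (by decide)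
  have hd1 : d ≠ 1 := fun h => hx1 (by
    rw [h] at hdx
    exact conj_eq_one_iff.1 (hdx.symm.trans (map_one c.ι)))
  have hdd : d * d = 1 := by
    have h1 : c.ι (d, 1) * c.ι (d, 1) = 1 := by
      rw [show c.ι (d, 1) = w * x * w⁻¹ from hdx,
        show w * x * w⁻¹ * (w * x * w⁻¹) = w * (x * x) * w⁻¹ by group, hxx]
      group
    rw [← map_mul, ← map_one c.ι] at h1
    exact congrArg Prod.fst (c.e.inj h1)
  refine c.not_isB_of_isA ?_ hB
  rcases invol_dih d hd hdd with h4 | h4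
  · exact c.isA_fst h4 hd1
  rcases mem_kay.1 h4 with rfl | rfl | rfl | rfl
  · exact absurd rfl hd1
  · exact c.isA_fst z_mem_four hd1
  · exact hk1
  · have := c.isA_conj hk1 (c.ι (v, 1))
    rwa [c.ι_conj', show ((v, (1 : P4)) * (k, 1) * (v, 1)⁻¹ : P4 × P4) = (z * k, 1) from
      Prod.ext hvk (by simp)] at this

end Ctx

end Cfsg.Agent.S4Wr
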