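import Mathlib
import Cfsg.Agent.Lib.S4Wr.Cent

/-!
Five conjugate elements permuted transitively with a transposition: the whole symmetric group is induced.
Consequence: `(k,1)` is not conjugate to `(z,z)` unless `(k,z)` is.
-/

set_option autoImplicit false
set_option linter.unusedSectionVars false

namespace Cfsg.Agent.S4Wr

open Subgroup Cfsg.Agent.Transfer.Fusion

variable {G : Type*} [Group G]

/-- A group permuting five elements by conjugation, transitively, with an element inducing a transposition, induces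
every permutation. -/
theorem exists_perm_five [Finite G] (N : Subgroup G) (f : Fin 5 → G) (hf : Function.Injective f)
    (hmem : ∀ n ∈ N, ∀ i, ∃ j, n * f i * n⁻¹ = f j)
    (htrans : ∀ j, ∃ n ∈ N, n * f 0 * n⁻¹ = f j)
    (t : G) (ht : t ∈ N) (i j : Fin 5) (hij : i ≠ j) (hti : t * f i * t⁻¹ = f j)
    (htj : t * f j * t⁻¹ = f i) (hfix : ∀ l, l ≠ i → l ≠ j → t * f l * t⁻¹ = f l) :
    ∃ φ : N →* Equiv.Perm (Fin 5), Function.Surjective φ ∧
      ∀ (n : N) (l : Fin 5), (n : G) * f l * (n : G)⁻¹ = f (φ n l) := by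
  classical
  choose idx hidx using hmem
  letI : MulAction N (Fin 5) :=
    { smul := fun n l => idx n n.2 l
      one_smul := fun l => hf (by
        show f (idx _ _ l) = f l
        rw [← hidx, OneMemClass.coe_one, inv_one, mul_one, one_mul])
      mul_smul := fun a b l => hf (by
        show f (idx _ _ l) = f (idx _ _ (idx _ _ l))
        rw [← hidx, ← hidx, ← hidx, Subgroup.coe_mul, mul_inv_rev]
        simp only [mul_assoc]) }
  have hsmul : ∀ (n : N) (l : Fin 5), (n : G) * f l * (n : G)⁻¹ = f (n • l) := fun n l => hidx n n.2 l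
  refine ⟨MulAction.toPermHom N (Fin 5), ?_, hsmul⟩
  have ht' : MulAction.toPermHom N (Fin 5) ⟨t, ht⟩ = Equiv.swap i j := by
    ext l : 1
    apply hf
    show f ((⟨t, ht⟩ : N) • l) = _
    rw [← hsmul]
    by_cases h1 : l = i
    · subst h1; rw [Equiv.swap_apply_left]; exact hti
    by_cases h2 : l = j
    · subst h2; rw [Equiv.swap_apply_right]; exact htj
    rw [Equiv.swap_apply_of_ne_of_ne h1 h2]
    exact hfix l h1 h2
  have horb : MulAction.orbit N (0 : Fin 5) = Set.univ := by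
    refine Set.eq_univ_of_forall fun l => ?_
    obtain ⟨n, hn, he⟩ := htrans l
    exact ⟨⟨n, hn⟩, hf ((hsmul _ _).symm.trans he)⟩
  have h5 : 5 ∣ Nat.card (MulAction.toPermHom N (Fin 5)).range := by
    rw [← Subgroup.index_ker]
    have h : (MulAction.stabilizer N (0 : Fin 5)).index = 5 := by
      rw [MulAction.index_stabilizer, horb, Set.ncard_univ, Nat.card_eq_fintype_card, Fintype.card_fin]
    have hd : (MulAction.stabilizer N (0 : Fin 5)).index ∣ (MulAction.toPermHom N (Fin 5)).ker.index :=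
      index_dvd_of_le fun n hn => Equiv.ext_iff.1 hn 0
    rwa [h] at hd
  intro π
  haveI : DecidablePred (· ∈ (MulAction.toPermHom N (Fin 5)).range) := Classical.decPred _
  have htop := Equiv.Perm.subgroup_eq_top_of_swap_mem (H := (MulAction.toPermHom N (Fin 5)).range)
    (τ := Equiv.swap i j) (by rw [Fintype.card_fin]; norm_num)
    (by rw [Fintype.card_fin, ← Nat.card_eq_fintype_card]; exact h5) ⟨⟨t, ht⟩, ht'⟩ ⟨i, j, hij, rfl⟩
  exact (htop ▸ mem_top π : π ∈ (MulAction.toPermHom N (Fin 5)).range)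

theorem kay_cases : ∀ y : P4, y ∈ kay → y = 1 ∨ y = z ∨ y = k ∨ y = z * k := fun _ h => h

theorem four_conj_z : ∀ x : P4, x ∈ four → x ≠ 1 → ∃ a : P4, a * x * a⁻¹ = z := by decide +kernel

theorem kay_conj_k : ∀ y : P4, y ∈ kay → y ≠ 1 → y ≠ z → ∃ a : P4, a * y * a⁻¹ = k := by
  decide +kernel

theorem v_conj_k : v * k * v⁻¹ = z * k := by decide
theorem v_conj_z : v * z * v⁻¹ = z := by decide

namespace Ctx

variable (c : Ctx G)

/-- The five conjugates of `z₀` in `VK` in the case excluded below. -/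
def fiveVK : Fin 5 → P4 × P4
  | 0 => (z, z) | 1 => (v, z) | 2 => (z * v, z) | 3 => (1, k) | 4 => (1, z * k)

theorem fiveVK_injective : Function.Injective fiveVK := by decide

theorem fiveVK_mem : ∀ i, (fiveVK i).1 ∈ four ∧ (fiveVK i).2 ∈ kay := by decide

/-- The conjugates of `(z,z)` in `V × K` when `(k,z)` is not one of them. -/
theorem isB_VK_cases [Finite G] (hkz : ¬ c.IsB (c.ι (k, z))) {g : G} (hg : g ∈ c.VK) (hB : c.IsB g) :
    ∃ i, g = c.ι (fiveVK i) := by
  obtain ⟨x, hx, y, hy, rfl⟩ := c.e.mem_box.1 hg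
  have h1 : (x, y) ≠ (1, 1) := fun h => by
    rw [h] at hB
    obtain ⟨rfl, rfl⟩ := Prod.mk.inj h
    obtain ⟨w, hw⟩ := isConj_iff.1 hB
    rw [show ((1 : P4), (1 : P4)) = 1 from rfl, map_one, conj_eq_one_iff] at hw
    exact absurd (c.e.inj (hw.trans (map_one c.ι).symm)) (by decide)
  rcases hx with rfl | rfl | rfl | rfl <;> rcases kay_cases y hy with rfl | rfl | rfl | rfl
  case inl.inl => exact (h1 rfl).elim
  case inl.inr.inl => exact absurd hB (c.not_isB_of_isA (c.isA_snd z_mem_four (by decide)))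
  case inl.inr.inr.inl => exact ⟨3, rfl⟩
  case inl.inr.inr.inr => exact ⟨4, rfl⟩
  case inr.inl.inl => exact absurd hB (c.not_isB_of_isA (c.isA_fst z_mem_four (by decide)))
  case inr.inr.inl.inl => exact absurd hB (c.not_isB_of_isA (c.isA_fst v_mem_four (by decide)))
  case inr.inr.inr.inl =>
    exact absurd hB (c.not_isB_of_isA (c.isA_fst (four.mul_mem z_mem_four v_mem_four) (by decide)))
  case inr.inl.inr.inl => exact ⟨0, rfl⟩
  case inr.inr.inl.inr.inl => exact ⟨1, rfl⟩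
  case inr.inr.inr.inr.inl => exact ⟨2, rfl⟩
  all_goals
    refine absurd ((hB.trans (c.isConj_pair (x' := z) (y' := k) ?_ ?_)).trans (c.isConj_swap z k)) hkz
    · exact four_conj_z _ (by decide) (by decide)
    · exact kay_conj_k _ (by decide) (by decide) (by decide)

theorem isConj_k_pair [Finite G] : IsConj (c.ι (1, k)) (c.ι (1, z * k)) :=
  c.isConj_pair ⟨1, by simp⟩ ⟨v, v_conj_k⟩

/-- If `(k,1)` is conjugate to `(z,z)` then so is `(k,z)`. -/
theorem false_of_isB_k1 [Finite G] (hk1 : c.IsB (c.ι (k, 1))) (hkz : ¬ c.IsB (c.ι (k, z))) : False := by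
  haveI : Fact (Nat.Prime 2) := ⟨Nat.prime_two⟩
  have hk2 : c.IsB (c.ι (1, k)) := hk1.trans (c.isConj_swap k 1)
  have hE := c.box_isE16 (X := four) (Y := kay) (Or.inl rfl) (Or.inr rfl)
  have hk2mem : c.ι (1, k) ∈ c.VK := c.e.ι_mem_box.2 ⟨one_mem _, k_mem_kay⟩
  -- move `z₀` to `(1,k)` inside the normaliser of `VK`
  obtain ⟨g, hg⟩ := isConj_iff.1 hk2
  have h1 : Ad g c.e.syl ≤ centralizer ({c.ι (1, k)} : Set G) := by
    rintro _ ⟨w, hw, rfl⟩
    rw [mem_centralizer_singleton_iff, ← hg]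
    show g * w * g⁻¹ * (g * c.z0 * g⁻¹) = g * c.z0 * g⁻¹ * (g * w * g⁻¹)
    rw [show g * w * g⁻¹ * (g * c.z0 * g⁻¹) = g * (w * c.z0) * g⁻¹ by group,
      mem_centralizer_singleton_iff.1 (c.syl_le_C hw)]
    group
  have h2 : c.VK ≤ centralizer ({c.ι (1, k)} : Set G) := fun w hw =>
    mem_centralizer_singleton_iff.2 (hE.2.1 w hw _ hk2mem)
  obtain ⟨q, hq, R, hR1, hR2⟩ := exists_conj_le_sylow (c.isPGroup_syl.map (MulAut.conj g).toMonoidHom) h1
    (c.isPGroup_base.to_le c.VK_le_base) h2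
  have hR : (R : Subgroup G) ≤ Ad g c.e.syl := by
    refine (eq_of_le_of_card_ge hR1 (le_of_eq ?_)).ge
    rw [card_map_conj, ← c.hT, Sylow.card_eq_multiplicity, Sylow.card_eq_multiplicity]
  have hm : Ad (g⁻¹ * q) c.VK ≤ c.e.syl := by
    rw [← Ad_Ad]
    show (Ad q c.VK).map (MulAut.conj g⁻¹).toMonoidHom ≤ _
    rw [map_conj_le_iff, inv_inv]
    exact hR2.trans hR
  have hmk : (g⁻¹ * q) * c.ι (1, k) * (g⁻¹ * q)⁻¹ = c.z0 := by
    rw [show g⁻¹ * q * c.ι (1, k) * (g⁻¹ * q)⁻¹ = g⁻¹ * (q * c.ι (1, k)) * q⁻¹ * g by group,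
      mem_centralizer_singleton_iff.1 hq, ← mul_assoc, mul_inv_cancel_right, ← hg]
    show g⁻¹ * (g * c.z0 * g⁻¹) * g = c.z0
    group
  obtain ⟨m, hm1, hm2⟩ : ∃ m ∈ normalizer (c.VK : Set G), m * c.ι (1, k) * m⁻¹ = c.z0 := by
    rcases c.E16_cases (c.Ad_isE16 hE hm) with h | h | h | h
    · exact (c.VK_not_conj (Or.inl rfl) _ (Or.inl rfl) h).elim
    · exact (c.VK_not_conj (Or.inr rfl) _ (Or.inl rfl) h).elim
    · exact ⟨_, map_conj_eq_self_iff.1 h, hmk⟩
    · refine ⟨c.e.s * (g⁻¹ * q), map_conj_eq_self_iff.1 ?_, ?_⟩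
      · show Ad (c.e.s * (g⁻¹ * q)) c.VK = c.VK
        rw [← Ad_Ad, h, c.s_conj_box]
      · rw [show c.e.s * (g⁻¹ * q) * c.ι (1, k) * (c.e.s * (g⁻¹ * q))⁻¹ =
          c.e.s * ((g⁻¹ * q) * c.ι (1, k) * (g⁻¹ * q)⁻¹) * c.e.s⁻¹ by group, hmk]
        exact c.e.s_conj _
  -- the action on five points
  have hN := c.base_normalizes_mixed (Or.inl rfl : c.VK = c.VK ∨ c.VK = c.KV)
  let f : Fin 5 → G := fun i => c.ι (fiveVK i)
  have hwr : ∀ a : P4, c.ι (a, 1) ∈ normalizer (c.VK : Set G) := by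
    intro a
    refine map_conj_eq_self_iff.1 (eq_of_le_of_card_ge ?_ (le_of_eq (card_map_conj _ _).symm))
    rintro _ ⟨w, hw, rfl⟩
    obtain ⟨x, hx, y, hy, rfl⟩ := c.e.mem_box.1 hw
    show c.ι (a, 1) * c.ι (x, y) * (c.ι (a, 1))⁻¹ ∈ c.VK
    rw [c.conj_pair]
    exact c.e.ι_mem_box.2 ⟨four_conj a x hx, by simpa using hy⟩
  have hfB : ∀ i, c.IsB (f i) := by
    have h3 : c.IsB (f 3) := hk2
    intro i
    fin_cases i
    exacts [c.isB_z0, c.isB_four v_mem_four (by decide) z_mem_four (by decide),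
      c.isB_four (four.mul_mem z_mem_four v_mem_four) (by decide) z_mem_four (by decide), h3,
      h3.trans c.isConj_k_pair]
  obtain ⟨φ, hφ, hφf⟩ := exists_perm_five (normalizer (c.VK : Set G)) f (c.e.inj.comp fiveVK_injective)
    (fun n hn i => c.isB_VK_cases hkz
      ((mem_normalizer_iff.1 hn _).1 (c.e.ι_mem_box.2 (fiveVK_mem i))) (c.isB_conj (hfB i) n))
    (fun j => by
      fin_cases j
      · exact ⟨1, one_mem _, by simp⟩
      · obtain ⟨a, ha⟩ := four_class v v_mem_four (by decide)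
        exact ⟨_, hwr a, (c.conj_pair a 1 z z).trans (by simp [ha]; rfl)⟩
      · obtain ⟨a, ha⟩ := four_class (z * v) (four.mul_mem z_mem_four v_mem_four) (by decide)
        exact ⟨_, hwr a, (c.conj_pair a 1 z z).trans (by simp [ha]; rfl)⟩
      · exact ⟨m⁻¹, inv_mem hm1, by show m⁻¹ * c.z0 * m⁻¹⁻¹ = c.ι (1, k); rw [← hm2]; group⟩
      · refine ⟨c.ι (1, v) * m⁻¹,
          mul_mem (hN (c.e.mem_map.2 ⟨one_mem _, v_mem_dih⟩)) (inv_mem hm1), ?_⟩
        show c.ι (1, v) * m⁻¹ * c.z0 * (c.ι (1, v) * m⁻¹)⁻¹ = c.ι (1, z * k)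
        rw [← hm2, show c.ι (1, v) * m⁻¹ * (m * c.ι (1, k) * m⁻¹) * (c.ι (1, v) * m⁻¹)⁻¹ =
          c.ι (1, v) * c.ι (1, k) * (c.ι (1, v))⁻¹ by group, c.conj_pair, v_conj_k, one_mul, inv_one, mul_one])
    (c.ι (1, v)) (hN (c.e.mem_map.2 ⟨one_mem _, v_mem_dih⟩)) 3 4 (by decide)
    ((c.conj_pair 1 v 1 k).trans (congrArg c.ι (by decide)))
    ((c.conj_pair 1 v 1 (z * k)).trans (congrArg c.ι (by decide)))
    (fun l h3 h4 => (c.conj_pair 1 v (fiveVK l).1 (fiveVK l).2).trans (congrArg c.ι (by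
      fin_cases l <;> first | decide | exact absurd rfl h3 | exact absurd rfl h4)))
  -- too large a 2-part
  have hker : c.VK.subgroupOf (normalizer (c.VK : Set G)) ≤ φ.ker := by
    intro w hw
    refine Equiv.ext fun l => c.e.inj.comp fiveVK_injective ?_
    show f (φ w l) = f l
    rw [← hφf, mul_inv_eq_iff_eq_mul]
    exact hE.2.1 w hw _ (c.e.ι_mem_box.2 (fiveVK_mem l))
  have h16 : 16 ∣ Nat.card φ.ker := by
    have h := card_dvd_of_le hker
    rwa [Nat.card_congr (subgroupOfEquivOfLe le_normalizer).toEquiv, hE.2.2.2] at h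
  have h128 : 2 ^ 7 ∣ Nat.card ↥(normalizer (c.VK : Set G)) := by
    rw [← φ.ker.card_mul_index, index_ker, MonoidHom.range_eq_top.2 hφ, card_top, Nat.card_perm,
      Nat.card_fin]
    obtain ⟨u, hu⟩ := h16
    exact ⟨u * 15, by rw [hu]; simp [Nat.factorial]; ring⟩
  obtain ⟨P, hP⟩ := Sylow.exists_subgroup_card_pow_prime 2 h128
  obtain ⟨q', hq', S, hS1, hS2⟩ := exists_conj_le_sylow c.isPGroup_base hN
    ((IsPGroup.of_card hP).map (normalizer (c.VK : Set G)).subtype) (map_subtype_le P)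
  have heq := c.le_base_of_normalizes_mixed (Or.inl rfl) (S.2.to_le inf_le_left) inf_le_right
    (le_inf hS1 hN)
  have hle : Ad q' (P.map (normalizer (c.VK : Set G)).subtype) ≤ c.e.base := by
    rw [← heq]
    refine le_inf hS2 ?_
    rintro _ ⟨w, hw, rfl⟩
    exact mul_mem (mul_mem hq' (map_subtype_le P hw)) (inv_mem hq')
  have := Subgroup.card_le_of_le hle
  rw [card_map_conj, card_map_of_injective (Subgroup.subtype_injective _), hP, c.e.card_base] at this
  omega

end Ctx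

end Cfsg.Agent.S4Wr
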