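import Mathlib
import Cfsg.Agent.Lib.S4Wr.Five

/-!
Thompson transfer gives `C(z₀) ≰ T`; the orbit of `z₁` in `C(z₀)` then lies in the normaliser of `K × K`.
-/

set_option autoImplicit false
set_option linter.unusedSectionVars false

namespace Cfsg.Agent.S4Wr

open Subgroup Cfsg.Agent.Transfer.Fusion

variable {G : Type*} [Group G]

theorem dih_a_sq : (k * v) * (k * v) = z := by decide

namespace Ctx

variable (c : Ctx G) [Finite G]

include c in
theorem no_index_two : ∀ H : Subgroup G, H.index ≠ 2 := by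
  intro H hH
  haveI := c.simple
  rcases (normal_of_index_eq_two hH).eq_bot_or_eq_top with rfl | rfl
  · rw [index_bot] at hH
    have := Subgroup.card_subgroup_dvd_card c.e.syl
    rw [hH, c.e.card_syl] at this
    exact absurd (Nat.le_of_dvd (by norm_num) this) (by norm_num)
  · rw [index_top] at hH; omega

/-- Thompson transfer: every involution is conjugate into each subgroup of index two of `T`. -/
theorem exists_conj_mem_of_index_two {P : Subgroup G} (hP : P ≤ c.e.syl) (hcard : Nat.card P = 64)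
    {u : G} (hu : orderOf u = 2) : ∃ g : G, g * u * g⁻¹ ∈ P := by
  refine Involutions.ThompsonTransfer.exists_conj_mem c.no_index_two c.T P (c.hT ▸ hP) ?_ u hu
  rw [c.hT]
  have h := (P.subgroupOf c.e.syl).card_mul_index
  rw [Nat.card_congr (subgroupOfEquivOfLe hP).toEquiv, hcard, c.e.card_syl] at h
  show (P.subgroupOf c.e.syl).index = 2
  omega

/-- Involutions of `D₈ × D₈` up to conjugacy. -/
theorem invol_base {u : G} (hu : u ∈ c.e.base) (h2 : orderOf u = 2) :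
    c.IsA u ∨ c.IsB u ∨ IsConj (c.ι (k, 1)) u ∨ IsConj (c.ι (k, z)) u ∨ IsConj (c.ι (k, k)) u := by
  obtain ⟨⟨x, y⟩, -, rfl⟩ := hu
  rw [orderOf_injective c.ι c.e.inj] at h2
  obtain ⟨hsq, hne⟩ := Involutions.Basic.orderOf_two_iff.1 h2
  obtain ⟨a, ha⟩ := invol_class x (congrArg Prod.fst hsq)
  obtain ⟨b, hb⟩ := invol_class y (congrArg Prod.snd hsq)
  have hc : ∀ {x' y' : P4}, a * x * a⁻¹ = x' → b * y * b⁻¹ = y' → IsConj (c.ι (x', y')) (c.ι (x, y)) :=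
    fun h h' => (c.isConj_pair ⟨a, h⟩ ⟨b, h'⟩).symm
  rcases ha with ha | ha | ha <;> rcases hb with hb | hb | hb
  · exact (hne (Prod.ext (conj_eq_one_iff.1 ha) (conj_eq_one_iff.1 hb))).elim
  · exact Or.inl (c.isA_z2.trans (hc ha hb))
  · exact Or.inr (Or.inr (Or.inl ((c.isConj_swap k 1).trans (hc ha hb))))
  · exact Or.inl (hc ha hb)
  · exact Or.inr (Or.inl (hc ha hb))
  · exact Or.inr (Or.inr (Or.inr (Or.inl ((c.isConj_swap k z).trans (hc ha hb)))))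
  · exact Or.inr (Or.inr (Or.inl (hc ha hb)))
  · exact Or.inr (Or.inr (Or.inr (Or.inl (hc ha hb))))
  · exact Or.inr (Or.inr (Or.inr (Or.inr (hc ha hb))))

theorem exists_card32 {u : G} (hu : u ∈ c.e.base) (h2 : orderOf u = 2) :
    ∃ P : Subgroup G, IsPGroup 2 P ∧ 32 ≤ Nat.card P ∧ P ≤ centralizer ({u} : Set G) := by
  have key : ∀ w : G, IsConj w u → ∀ P : Subgroup G, P ≤ c.e.syl → 32 ≤ Nat.card P →
      P ≤ centralizer ({w} : Set G) →
      ∃ P : Subgroup G, IsPGroup 2 P ∧ 32 ≤ Nat.card P ∧ P ≤ centralizer ({u} : Set G) := by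
    intro w hw P hPT hP hPc
    obtain ⟨g, rfl⟩ := isConj_iff.1 hw
    refine ⟨Ad g P, (c.isPGroup_syl.to_le hPT).map _, by rwa [card_map_conj], ?_⟩
    rintro _ ⟨x, hx, rfl⟩
    rw [mem_centralizer_singleton_iff]
    show g * x * g⁻¹ * (g * w * g⁻¹) = g * w * g⁻¹ * (g * x * g⁻¹)
    rw [show g * x * g⁻¹ * (g * w * g⁻¹) = g * (x * w) * g⁻¹ by group,
      mem_centralizer_singleton_iff.1 (hPc hx)]
    group
  have hbox : ∀ y : P4, y = 1 ∨ y = z → c.e.box kay dih ≤ centralizer ({c.ι (k, y)} : Set G) := by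
    intro y hy g hg
    obtain ⟨p, hp, q, hq, rfl⟩ := c.e.mem_box.1 hg
    rw [mem_centralizer_singleton_iff, ← map_mul, ← map_mul, Prod.mk_mul_mk, Prod.mk_mul_mk,
      comm_kay p k hp k_mem_kay]
    rcases hy with rfl | rfl
    · rw [mul_one, one_mul]
    · rw [mem_dih.1 hq]
  have hbox32 : 32 ≤ Nat.card (c.e.box kay dih) := by rw [c.e.card_box, card_kay, card_dih]
  have hboxT : c.e.box kay dih ≤ c.e.syl := (c.e.box_mono kay_le_dih le_rfl).trans c.e.base_le_syl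
  rcases c.invol_base hu h2 with h | h | h | h | h
  · refine key _ h c.e.base c.e.base_le_syl (by rw [c.e.card_base]; norm_num) fun g hg => ?_
    exact mem_centralizer_singleton_iff.2 (c.mem_H.1 (c.base_le_H hg)).1.symm
  · exact key _ h c.e.syl le_rfl (by rw [c.e.card_syl]; norm_num) c.syl_le_C
  · exact key _ h _ hboxT hbox32 (hbox 1 (Or.inl rfl))
  · exact key _ h _ hboxT hbox32 (hbox z (Or.inr rfl))
  · have hsw : ∀ p ∈ kay.prod kay, p.swap ∈ kay.prod kay := fun _ hp => ⟨hp.2, hp.1⟩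
    refine key _ h (c.e.ext (kay.prod kay) hsw) ?_ ?_ ?_
    · rintro g ⟨p, hp, hg⟩
      exact ⟨p, ⟨kay_le_dih hp.1, kay_le_dih hp.2⟩, hg⟩
    · rw [c.e.card_ext, Nat.card_congr (prodEquiv kay kay).toEquiv, Nat.card_prod, card_kay]
    · rintro g ⟨p, hp, hg⟩
      have hcom : c.ι p * c.ι (k, k) = c.ι (k, k) * c.ι p := by
        rw [← map_mul, ← map_mul]
        exact congrArg c.ι (Prod.ext (comm_kay _ _ hp.1 k_mem_kay) (comm_kay _ _ hp.2 k_mem_kay))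
      rw [mem_centralizer_singleton_iff]
      rcases hg with rfl | rfl
      · exact hcom
      · rw [mul_assoc, c.e.s_mul, show ((k, k) : P4 × P4).swap = (k, k) from rfl, ← mul_assoc, hcom,
          mul_assoc]

theorem orderOf_s : orderOf c.e.s = 2 := Involutions.Basic.orderOf_two_iff.2 ⟨c.e.s_sq, c.e.s_ne_one⟩

/-- The centraliser of `z₀` is larger than `T`. -/
theorem exists_C_not_syl : ∃ y ∈ c.C, y ∉ c.e.syl := by
  haveI : Fact (Nat.Prime 2) := ⟨Nat.prime_two⟩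
  obtain ⟨g, hg⟩ := c.exists_conj_mem_of_index_two c.e.base_le_syl c.e.card_base c.orderOf_s
  obtain ⟨P, hP2, hP32, hPc⟩ := c.exists_card32 hg
    (by rw [Involutions.Basic.orderOf_conj]; exact c.orderOf_s)
  let Ks := centralizer ({c.e.s} : Set G)
  let W : Subgroup G := c.e.syl ⊓ Ks
  have hW : ∀ w ∈ W, ∃ x ∈ dih, w = c.ι (x, x) ∨ w = c.ι (x, x) * c.e.s := by
    rintro w ⟨⟨⟨x, y⟩, hp, hw⟩, hwc⟩
    have h := mem_centralizer_singleton_iff.1 hwc
    have hxy : x = y := by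
      rcases hw with rfl | rfl
      · rw [c.e.s_mul] at h
        exact congrArg Prod.fst (c.e.inj (mul_right_cancel h))
      · rw [← mul_assoc c.e.s, c.e.s_mul] at h
        exact congrArg Prod.fst (c.e.inj (mul_right_cancel (mul_right_cancel h)))
    subst hxy
    exact ⟨x, hp.1, hw⟩
  have hWcard : Nat.card W < 32 := by
    let D : Subgroup (P4 × P4) := dih.map ((MonoidHom.id P4).prod (MonoidHom.id P4))
    have hDswap : ∀ p ∈ D, p.swap ∈ D := by rintro _ ⟨x, hx, rfl⟩; exact ⟨x, hx, rfl⟩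
    have hle : W ≤ c.e.ext D hDswap := fun w hw => by
      obtain ⟨x, hx, h⟩ := hW w hw
      exact ⟨(x, x), ⟨x, hx, rfl⟩, h⟩
    refine (Subgroup.card_le_of_le hle).trans_lt ?_
    rw [c.e.card_ext, card_map_of_injective (fun a b h => congrArg Prod.fst h), card_dih]
    norm_num
  obtain ⟨q, hq, R, hR1, hR2⟩ := exists_conj_le_sylow (K := Ks) (c.isPGroup_syl.to_le inf_le_left)
    (inf_le_right (a := c.e.syl)) (hP2.map (MulAut.conj g⁻¹).toMonoidHom) (B := Ad g⁻¹ P) (by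
      rintro _ ⟨x, hx, rfl⟩
      have h := mem_centralizer_singleton_iff.1 (hPc hx)
      rw [mem_centralizer_singleton_iff]
      show g⁻¹ * x * g⁻¹⁻¹ * c.e.s = c.e.s * (g⁻¹ * x * g⁻¹⁻¹)
      rw [show g⁻¹ * x * g⁻¹⁻¹ * c.e.s = g⁻¹ * (x * (g * c.e.s * g⁻¹)) * g by group, h]
      group)
  set S : Subgroup G := (R : Subgroup G) ⊓ Ks with hS
  have hWS : W < S := by
    refine lt_of_le_of_ne (le_inf hR1 inf_le_right) fun h => ?_
    have hle : Ad q (Ad g⁻¹ P) ≤ S := by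
      refine le_inf hR2 ?_
      rintro _ ⟨x, ⟨w, hw, rfl⟩, rfl⟩
      refine mul_mem (mul_mem hq ?_) (inv_mem hq)
      have h' := mem_centralizer_singleton_iff.1 (hPc hw)
      show g⁻¹ * w * g⁻¹⁻¹ ∈ Ks
      rw [mem_centralizer_singleton_iff,
        show g⁻¹ * w * g⁻¹⁻¹ * c.e.s = g⁻¹ * (w * (g * c.e.s * g⁻¹)) * g by group, h']
      group
    have := Subgroup.card_le_of_le hle
    rw [card_map_conj, card_map_conj, ← h] at this
    omega
  obtain ⟨y, ⟨hyS, hyn⟩, hyW⟩ :=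
    SetLike.exists_of_lt (Cfsg.Agent.Transfer.Frobenius.lt_inf_normalizer (R.2.to_le inf_le_left) hWS)
  refine ⟨y, ?_, fun hyT => hyW ⟨hyT, hyS.2⟩⟩
  have hsq : ∀ w ∈ W, w * w = 1 ∨ w * w = c.z0 := by
    intro w hw
    obtain ⟨x, hx, h⟩ := hW w hw
    have hww : w * w = c.ι (x * x, x * x) := by
      rcases h with rfl | rfl
      · rw [← map_mul]; rfl
      · rw [mul_assoc, ← mul_assoc c.e.s, c.e.s_swap, ← map_mul]; rfl
    rcases sq_dih x hx with h' | h' <;> rw [hww, h']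
    · exact Or.inl (map_one _)
    · exact Or.inr rfl
  have ha : c.ι (k * v, k * v) ∈ W := ⟨c.e.mem_syl_iff.2
    ⟨mul_mem k_mem_dih v_mem_dih, mul_mem k_mem_dih v_mem_dih⟩,
    mem_centralizer_singleton_iff.2 (by rw [c.e.s_mul]; rfl)⟩
  have hz : c.z0 = c.ι (k * v, k * v) * c.ι (k * v, k * v) := by
    rw [← map_mul, Prod.mk_mul_mk, dih_a_sq]
  rw [mem_centralizer_singleton_iff]
  rcases hsq _ ((mem_normalizer_iff.1 hyn _).1 ha) with h | h
  · rw [show y * c.ι (k * v, k * v) * y⁻¹ * (y * c.ι (k * v, k * v) * y⁻¹) =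
      y * (c.ι (k * v, k * v) * c.ι (k * v, k * v)) * y⁻¹ by group, ← hz, conj_eq_one_iff,
      ← map_one c.ι] at h
    exact absurd (c.e.inj h) (by decide)
  · rw [show y * c.ι (k * v, k * v) * y⁻¹ * (y * c.ι (k * v, k * v) * y⁻¹) =
      y * (c.ι (k * v, k * v) * c.ι (k * v, k * v)) * y⁻¹ by group, ← hz] at h
    exact mul_inv_eq_iff_eq_mul.1 h

theorem z1_mem_pCoreOf_C : c.z1 ∈ Cfsg.pCoreOf 2 c.C := by
  set R := Cfsg.pCoreOf 2 c.C
  by_cases hRB : R ≤ c.e.base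
  · refine c.isCharP_C ⟨c.H_le_centralizer_z0 (c.base_le_H (c.e.ι_mem_box.2 ⟨z_mem_dih, one_mem _⟩)), ?_⟩
    intro r hr
    exact (c.mem_H.1 (c.base_le_H (hRB hr))).1.symm
  obtain ⟨r, hr, hrB⟩ := SetLike.not_le_iff_exists.1 hRB
  obtain ⟨⟨a, b⟩, hab, rfl | rfl⟩ := c.pCoreOf_C_le hr
  · exact (hrB (c.e.mem_map.2 hab)).elim
  have hn : ∀ t ∈ c.e.syl, ∀ w ∈ R, t * w * t⁻¹ * w⁻¹ ∈ R := fun t ht w hw =>
    R.mul_mem (Subgroup.le_normalizer_iff.1 (Cfsg.Agent.CharP.le_normalizer_pCoreOf 2 c.C) t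
      (c.syl_le_C ht) w hw) (R.inv_mem hw)
  have h1 : c.ι (k, b * k * b⁻¹) ∈ R := by
    have h := hn (c.ι (k, 1)) (c.e.mem_syl_iff.2 ⟨k_mem_dih, one_mem _⟩) _ hr
    convert h using 1
    rw [mul_inv_rev, c.e.s_inv, show c.ι (k, 1) * (c.ι (a, b) * c.e.s) * (c.ι (k, 1))⁻¹ *
      (c.e.s * (c.ι (a, b))⁻¹) = c.ι (k, 1) * c.ι (a, b) * (c.e.s * (c.ι (k, 1))⁻¹ * c.e.s) *
      (c.ι (a, b))⁻¹ by group, ← map_inv, ← map_inv, c.e.s_swap, ← map_mul, ← map_mul, ← map_mul]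
    congr 1
    refine Prod.ext ?_ ?_
    · show k = k * a * (1 : P4)⁻¹ * a⁻¹
      rw [inv_one, mul_one, mul_inv_cancel_right]
    · show b * k * b⁻¹ = 1 * b * k⁻¹ * b⁻¹
      rw [one_mul, show k⁻¹ = k by decide]
  have h2 := R.inv_mem (hn (c.ι (v, 1)) (c.e.mem_syl_iff.2 ⟨v_mem_dih, one_mem _⟩) _ h1)
  convert h2 using 1
  simp only [← map_inv, ← map_mul]
  refine congrArg c.ι (Prod.ext ?_ ?_)
  · show z = (v * k * v⁻¹ * k⁻¹)⁻¹
    decide
  · show (1 : P4) = (1 * (b * k * b⁻¹) * 1⁻¹ * (b * k * b⁻¹)⁻¹)⁻¹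
    simp

theorem mem_syl_of_conj_z1 {y : G} (hy : y ∈ c.C) (h : y * c.z1 * y⁻¹ = c.z1 ∨ y * c.z1 * y⁻¹ = c.z2) :
    y ∈ c.e.syl := by
  have key : ∀ w ∈ c.C, w * c.z1 * w⁻¹ = c.z1 → w ∈ c.e.syl := by
    intro w hw h1
    have h1' := mul_inv_eq_iff_eq_mul.1 h1
    have h0 := mem_centralizer_singleton_iff.1 hw
    refine c.e.base_le_syl (c.H_eq ▸ c.mem_H.2 ⟨h1'.symm, ?_⟩)
    have h2 : c.z2 = c.z1 * c.z0 := by
      rw [← map_mul]; exact congrArg c.ι (Prod.ext (z_mul_z).symm (one_mul _).symm)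
    rw [h2, mul_assoc, ← h0, ← mul_assoc, ← h1', mul_assoc]
  rcases h with h | h
  · exact key y hy h
  · have h' := key (c.e.s * y) (mul_mem (c.syl_le_C c.e.s_mem_syl) hy) (by
      rw [mul_inv_rev, show c.e.s * y * c.z1 * (y⁻¹ * c.e.s⁻¹) = c.e.s * (y * c.z1 * y⁻¹) * c.e.s⁻¹ by
        group, h, c.s_conj_z2])
    simpa [← mul_assoc, c.e.s_sq] using mul_mem c.e.s_mem_syl h'

/-- A conjugate `u` of `z₁` under an element of `C(z₀) ∖ T`. -/
structure Moved (y : G) : Prop where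
  mem : y ∈ c.C
  not_mem : y ∉ c.e.syl

theorem moved_mul {y t : G} (h : c.Moved y) (ht : t ∈ c.e.syl) : c.Moved (t * y) :=
  ⟨mul_mem (c.syl_le_C ht) h.mem, fun hty => h.not_mem (by simpa using mul_mem (inv_mem ht) hty)⟩

theorem moved_z2 {y : G} (h : c.Moved y) : y * c.z2 * y⁻¹ = y * c.z1 * y⁻¹ * c.z0 := by
  have h2 : c.z2 = c.z1 * c.z0 := by
    rw [← map_mul]; exact congrArg c.ι (Prod.ext (z_mul_z).symm (one_mul _).symm)
  have h0 : y * c.z0 * y⁻¹ = c.z0 := mul_inv_eq_iff_eq_mul.2 (mem_centralizer_singleton_iff.1 h.mem)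
  conv_rhs => rw [← h0]
  rw [h2]; group

theorem moved_mem_base {y : G} (h : c.Moved y) : y * c.z1 * y⁻¹ ∈ c.e.base := by
  set u := y * c.z1 * y⁻¹ with hu
  have hR : u ∈ c.e.syl := c.pCoreOf_C_le (Subgroup.le_normalizer_iff.1
    (Cfsg.Agent.CharP.le_normalizer_pCoreOf 2 c.C) y h.mem _ c.z1_mem_pCoreOf_C)
  have hz1sq : c.z1 * c.z1 = 1 := by
    rw [← map_mul, Prod.mk_mul_mk, z_mul_z, one_mul, Prod.mk_one_one, map_one]
  have husq : u * u = 1 := by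
    rw [hu, show y * c.z1 * y⁻¹ * (y * c.z1 * y⁻¹) = y * (c.z1 * c.z1) * y⁻¹ by group, hz1sq,
      mul_one, mul_inv_cancel]
  obtain ⟨⟨a, b⟩, hab, he | he⟩ := hR
  · rw [he]; exact c.e.mem_map.2 hab
  exfalso
  rw [he, mul_assoc, ← mul_assoc c.e.s, c.e.s_swap, ← map_mul, ← map_one c.ι] at husq
  have hb : a * b = 1 := congrArg Prod.fst (c.e.inj husq)
  set t : G := (c.ι (a, 1))⁻¹
  have ht : t ∈ c.e.syl := inv_mem (c.e.mem_syl_iff.2 ⟨hab.1, one_mem _⟩)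
  set y' : G := t * y with hy'
  have hm : c.Moved y' := c.moved_mul h ht
  have hus : y' * c.z1 * y'⁻¹ = c.e.s := by
    rw [hy', show t * y * c.z1 * (t * y)⁻¹ = t * u * t⁻¹ by rw [hu]; group, he,
      show t * (c.ι (a, b) * c.e.s) * t⁻¹ = t * c.ι (a, b) * (c.e.s * t⁻¹) by group]
    simp only [t, inv_inv]
    rw [c.e.s_mul, ← mul_assoc, ← map_inv, ← map_mul, ← map_mul,
      show ((a, (1 : P4))⁻¹ * (a, b) * ((a, (1 : P4)) : P4 × P4).swap) = 1 from Prod.ext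
        (by simp) (by simp [eq_inv_of_mul_eq_one_right hb]), map_one, one_mul]
  have hvv : c.ι (v, v) * c.e.s = c.e.s * c.ι (v, v) := by rw [c.e.s_mul]; rfl
  set e : G := y'⁻¹ * c.ι (v, v) * y' with he'
  have h0 : y' * c.z0 * y'⁻¹ = c.z0 := mul_inv_eq_iff_eq_mul.2 (mem_centralizer_singleton_iff.1 hm.mem)
  have hvz : c.ι (v, v) * c.z0 = c.z0 * c.ι (v, v) := by
    rw [← map_mul, ← map_mul]; exact congrArg c.ι (Prod.ext v_mem_dih v_mem_dih)
  have hez1 : c.z1 * e = e * c.z1 := by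
    rw [he', show c.z1 * (y'⁻¹ * c.ι (v, v) * y') = y'⁻¹ * (y' * c.z1 * y'⁻¹ * c.ι (v, v)) * y' by group,
      hus, ← hvv, ← hus]
    group
  have hez0 : c.z0 * e = e * c.z0 := by
    rw [he', show c.z0 * (y'⁻¹ * c.ι (v, v) * y') = y'⁻¹ * (y' * c.z0 * y'⁻¹ * c.ι (v, v)) * y' by group,
      h0, ← hvz]
    conv_lhs => rw [← h0]
    group
  have hz2 : c.z2 = c.z1 * c.z0 := by
    rw [← map_mul]; exact congrArg c.ι (Prod.ext (z_mul_z).symm (one_mul _).symm)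
  have heB : e ∈ c.e.base := c.H_eq ▸ c.mem_H.2
    ⟨hez1, by rw [hz2, mul_assoc, hez0, ← mul_assoc, hez1, mul_assoc]⟩
  have hB1 : c.IsB e := by
    rw [he']; simpa using c.isB_conj (c.isB_four v_mem_four (by decide) v_mem_four (by decide)) y'⁻¹
  have hB0 : c.IsB (e * c.z0) := by
    have h2 := c.isB_conj (c.isB_four (four.mul_mem v_mem_four z_mem_four) (by decide)
      (four.mul_mem v_mem_four z_mem_four) (by decide)) y'⁻¹
    rw [inv_inv, show ((v * z, v * z) : P4 × P4) = (v, v) * (z, z) from rfl, map_mul] at h2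
    convert h2 using 1
    rw [he', show y'⁻¹ * c.ι (v, v) * y' * c.z0 = y'⁻¹ * c.ι (v, v) * (y' * c.z0 * y'⁻¹) * y' by
      group, h0]
    group
  have hA1 : c.IsA (e * c.z1) := by
    have hsA : c.IsA c.e.s := hus ▸ c.isA_conj c.isA_z1 y'
    have h3 := c.isA_conj (c.isA_conj hsA (c.ι (v, 1))) y'⁻¹
    convert h3 using 1
    have hv : c.ι (v, v) * c.e.s = c.ι (v, 1) * c.e.s * (c.ι (v, 1))⁻¹ := by
      rw [mul_assoc, ← map_inv, c.e.s_mul, ← mul_assoc, ← map_mul]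
      exact congrArg (fun p => c.ι p * c.e.s) (Prod.ext (by decide) (by decide))
    rw [← hv, ← hus, he']
    group
  -- no such element in the base
  obtain ⟨⟨p, q⟩, ⟨hp, hq⟩, hpq⟩ := heB
  rw [← hpq, ← map_mul, Prod.mk_mul_mk, mul_one] at hA1
  rw [← hpq, ← map_mul, Prod.mk_mul_mk] at hB0
  rw [← hpq] at hB1
  by_cases hp1 : p = 1 ∨ p = z
  · by_cases hq1 : q = 1 ∨ q = z
    · rcases hp1 with rfl | rfl <;> rcases hq1 with rfl | rfl
      · rw [one_mul] at hB0 hA1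
        obtain ⟨w, hw⟩ := isConj_iff.1 hB1
        rw [Prod.mk_one_one, map_one, conj_eq_one_iff, ← map_one c.ι] at hw
        exact absurd (c.e.inj hw) (by decide)
      · exact c.not_isB_of_isA c.isA_z2 hB1
      · exact c.not_isB_of_isA c.isA_z1 hB1
      · obtain ⟨w, hw⟩ := isConj_iff.1 hB0
        rw [z_mul_z, Prod.mk_one_one, map_one, conj_eq_one_iff, ← map_one c.ι] at hw
        exact absurd (c.e.inj hw) (by decide)
    · rw [not_or] at hq1
      obtain ⟨w, -, hw⟩ := exists_dih_conj q hq hq1.1 hq1.2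
      exact c.not_isB_of_isA (hA1.trans (c.isConj_pair ⟨1, by simp⟩ ⟨w, hw⟩)) hB0
  · rw [not_or] at hp1
    obtain ⟨w, -, hw⟩ := exists_dih_conj p hp hp1.1 hp1.2
    exact c.not_isB_of_isA hA1 (hB1.trans (c.isConj_pair ⟨w, hw⟩ ⟨1, by simp⟩))

theorem moved_conj_le_base {y : G} (h : c.Moved y) {X : Subgroup G}
    (hcomm : ∀ x ∈ X, x * (y * c.z1 * y⁻¹) = y * c.z1 * y⁻¹ * x) (hX : X ≤ c.e.base) :
    Ad y⁻¹ X ≤ c.e.base := by
  have h0 : y * c.z0 * y⁻¹ = c.z0 := mul_inv_eq_iff_eq_mul.2 (mem_centralizer_singleton_iff.1 h.mem)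
  rintro _ ⟨x, hx, rfl⟩
  rw [← c.H_eq]
  show y⁻¹ * x * y⁻¹⁻¹ ∈ c.H
  rw [inv_inv, c.mem_H]
  have hx0 : x * c.z0 = c.z0 * x := mem_centralizer_singleton_iff.1 (c.syl_le_C (c.e.base_le_syl (hX hx)))
  have h1 : c.z1 * (y⁻¹ * x * y) = y⁻¹ * x * y * c.z1 := by
    rw [show c.z1 * (y⁻¹ * x * y) = y⁻¹ * (y * c.z1 * y⁻¹ * x) * y by group, ← hcomm x hx]; group
  have h0' : c.z0 * (y⁻¹ * x * y) = y⁻¹ * x * y * c.z0 := by
    rw [show c.z0 * (y⁻¹ * x * y) = y⁻¹ * (y * c.z0 * y⁻¹ * x) * y by group, h0, ← hx0]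
    conv_lhs => rw [← h0]
    group
  refine ⟨h1, ?_⟩
  have hz2 : c.z2 = c.z1 * c.z0 := by
    rw [← map_mul]; exact congrArg c.ι (Prod.ext (z_mul_z).symm (one_mul _).symm)
  rw [hz2, mul_assoc, h0', ← mul_assoc, h1, mul_assoc]

theorem false_of_moved_VK {y : G} (h : c.Moved y) {a b : P4} (ha : a ∈ four) (haz : a ≠ 1 ∧ a ≠ z)
    (hb : b ∈ kay) (hbz : b ≠ 1 ∧ b ≠ z) (hu : y * c.z1 * y⁻¹ = c.ι (a, b)) : False := by
  have hE := c.box_isE16 (X := four) (Y := kay) (Or.inl rfl) (Or.inr rfl)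
  have hab : c.ι (a, b) ∈ c.VK := c.e.ι_mem_box.2 ⟨ha, hb⟩
  have hbase := c.moved_conj_le_base h (X := c.VK) (fun x hx => by rw [hu]; exact hE.2.1 x hx _ hab)
    c.VK_le_base
  obtain ⟨n, hn, a', b', ha', hb', hb'z, hu'⟩ : ∃ n ∈ normalizer (c.VK : Set G), ∃ a' b' : P4,
      a' ∈ four ∧ b' ∈ kay ∧ (b' ≠ 1 ∧ b' ≠ z) ∧ n ∈ c.C ∧ n * c.z1 * n⁻¹ = c.ι (a', b') := by
    rcases c.E16_cases (c.Ad_isE16 hE (hbase.trans c.e.base_le_syl)) with e | e | e | e
    · exact (c.VK_not_conj (Or.inl rfl) _ (Or.inl rfl) e).elim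
    · exact (c.VK_not_conj (Or.inr rfl) _ (Or.inl rfl) e).elim
    · exact ⟨y, by simpa using inv_mem (map_conj_eq_self_iff.1 e), a, b, ha, hb, hbz, h.mem, hu⟩
    · refine ⟨y * c.e.s, ?_, a * z, b * z, four.mul_mem ha z_mem_four, kay.mul_mem hb z_mem_kay, ?_,
        mul_mem h.mem (c.syl_le_C c.e.s_mem_syl), ?_⟩
      · have hh : Ad (c.e.s * y⁻¹) c.VK = c.VK := by rw [← Ad_Ad, e, c.s_conj_box]
        have := inv_mem (map_conj_eq_self_iff.1 hh)
        rwa [mul_inv_rev, inv_inv, c.e.s_inv] at this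
      · rcases kay_cases b hb with rfl | rfl | rfl | rfl
        · exact absurd rfl hbz.1
        · exact absurd rfl hbz.2
        · exact ⟨by decide, by decide⟩
        · exact ⟨by decide, by decide⟩
      · rw [show y * c.e.s * c.z1 * (y * c.e.s)⁻¹ = y * (c.e.s * c.z1 * c.e.s⁻¹) * y⁻¹ by group,
          c.s_conj_z1, c.moved_z2 h, hu, ← map_mul]
        rfl
  obtain ⟨hn0, hu'⟩ := hu'
  -- `(k,z)` is conjugate to `z₁`
  have hkzA : c.IsA (c.ι (k, z)) := by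
    have hA : c.IsA (c.ι (a, b)) := hu ▸ c.isA_conj c.isA_z1 y
    exact hA.trans ((c.isConj_pair (x' := z) (y' := k) (four_conj_z a ha haz.1)
      (kay_conj_k b hb hbz.1 hbz.2)).trans (c.isConj_swap z k))
  by_cases hk1 : c.IsB (c.ι (k, 1))
  · exact c.false_of_isB_k1 hk1 (c.not_isB_of_isA hkzA)
  -- the three conjugates of `z₀` in `VK` span `V × ⟨z⟩`
  have hF : ∀ x : P4, x ∈ four → x ≠ 1 → ∃ x', n * c.ι (x, z) * n⁻¹ = c.ι (x', z) := by
    intro x hx hx1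
    obtain ⟨i, hi⟩ := c.isB_VK_cases (c.not_isB_of_isA hkzA)
      ((mem_normalizer_iff.1 hn _).1 (c.e.ι_mem_box.2 ⟨hx, z_mem_kay⟩))
      (c.isB_conj (c.isB_four hx hx1 z_mem_four (by decide)) n)
    have hB := c.isB_conj (c.isB_four hx hx1 z_mem_four (by decide)) n
    rw [hi] at hB ⊢
    fin_cases i
    · exact ⟨z, rfl⟩
    · exact ⟨v, rfl⟩
    · exact ⟨z * v, rfl⟩
    · exact (hk1 (hB.trans (c.isConj_swap 1 k))).elim
    · exact (hk1 ((hB.trans c.isConj_k_pair.symm).trans (c.isConj_swap 1 k))).elim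
  obtain ⟨p, hp⟩ := hF v v_mem_four (by decide)
  obtain ⟨q, hq⟩ := hF (z * v) (four.mul_mem z_mem_four v_mem_four) (by decide)
  have hz1 : c.z1 = c.ι (v, z) * c.ι (z * v, z) := by
    rw [← map_mul]; exact congrArg c.ι (Prod.ext (by decide) (by decide))
  have hfin : c.ι (a', b') = c.ι (p * q, z * z) := by
    rw [← hu', hz1, show n * (c.ι (v, z) * c.ι (z * v, z)) * n⁻¹ =
      n * c.ι (v, z) * n⁻¹ * (n * c.ι (z * v, z) * n⁻¹) by group, hp, hq, ← map_mul]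
    rfl
  exact hb'z.1 ((congrArg Prod.snd (c.e.inj hfin)).trans z_mul_z)

/-- Some element of `N(K×K) ∩ C(z₀)` moves `z₁`. -/
theorem exists_moved_KK : ∃ y, c.Moved y ∧ y ∈ normalizer (c.KK : Set G) ∧
    ∃ a b, a ∈ kay ∧ b ∈ kay ∧ y * c.z1 * y⁻¹ = c.ι (a, b) ∧ ¬ ((a = 1 ∨ a = z) ∧ (b = 1 ∨ b = z)) := by
  obtain ⟨y0, hy0, hy0'⟩ := c.exists_C_not_syl
  have h : c.Moved y0 := ⟨hy0, hy0'⟩
  obtain ⟨⟨a, b⟩, ⟨had, hbd⟩, hu⟩ := c.moved_mem_base h
  have hsq : ((a, b) : P4 × P4) * (a, b) = 1 := c.e.inj (by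
    rw [map_mul, hu, map_one, show y0 * c.z1 * y0⁻¹ * (y0 * c.z1 * y0⁻¹) = y0 * (c.z1 * c.z1) * y0⁻¹ by
      group, ← map_mul, Prod.mk_mul_mk, z_mul_z, one_mul, Prod.mk_one_one, map_one, mul_one,
      mul_inv_cancel])
  have hA : c.IsA (c.ι (a, b)) := hu.symm ▸ c.isA_conj c.isA_z1 y0
  have hA' : c.IsA (c.ι (a, b) * c.z0) := hu.symm ▸ c.moved_z2 h ▸ c.isA_conj c.isA_z2 y0
  rw [← map_mul, Prod.mk_mul_mk] at hA'
  have hZ : ¬ ((a = 1 ∨ a = z) ∧ (b = 1 ∨ b = z)) := by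
    rintro ⟨ha, hb⟩
    rcases ha with rfl | rfl <;> rcases hb with rfl | rfl
    · obtain ⟨w, hw⟩ := isConj_iff.1 hA
      rw [Prod.mk_one_one, map_one, conj_eq_one_iff, ← map_one c.ι] at hw
      exact absurd (c.e.inj hw) (by decide)
    · exact h.not_mem (c.mem_syl_of_conj_z1 h.mem (Or.inr hu.symm))
    · exact h.not_mem (c.mem_syl_of_conj_z1 h.mem (Or.inl hu.symm))
    · exact c.not_isB_of_isA hA c.isB_z0
  have hna : a * a = 1 := congrArg Prod.fst hsq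
  have hnb : b * b = 1 := congrArg Prod.snd hsq
  by_cases hKa : a ∈ kay
  · by_cases hKb : b ∈ kay
    · refine ⟨y0, h, ?_, a, b, hKa, hKb, hu.symm, hZ⟩
      have hE := c.box_isE16 (X := kay) (Y := kay) (Or.inr rfl) (Or.inr rfl)
      have hbase := c.moved_conj_le_base h (X := c.KK)
        (fun x hx => by rw [← hu]; exact hE.2.1 x hx _ (c.e.ι_mem_box.2 ⟨hKa, hKb⟩)) c.KK_le_base
      have e := (c.isWeaklyClosed_normal (Or.inr rfl)).2 y0⁻¹
        (by rw [c.hT]; exact hbase.trans c.e.base_le_syl)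
      simpa using inv_mem (map_conj_eq_self_iff.1 e)
    · have hb4 : b ∈ four := (invol_dih b hbd hnb).resolve_right hKb
      have hbne : b ≠ 1 ∧ b ≠ z := ⟨fun e => hKb (e ▸ one_mem _), fun e => hKb (e ▸ z_mem_kay)⟩
      by_cases haz : a = 1 ∨ a = z
      · exfalso
        rcases haz with rfl | rfl
        · refine c.not_isB_of_isA hA' (c.isB_four (four.mul_mem (one_mem _) z_mem_four) (by decide)
            (four.mul_mem hb4 z_mem_four) fun e => hbne.2 ?_)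
          rwa [mul_eq_one_iff_eq_inv, show z⁻¹ = z by decide] at e
        · exact c.not_isB_of_isA hA (c.isB_four z_mem_four (by decide) hb4 hbne.1)
      · exfalso
        rw [not_or] at haz
        refine c.false_of_moved_VK (c.moved_mul h c.e.s_mem_syl) (a := b) (b := a) hb4 hbne hKa haz ?_
        rw [show c.e.s * y0 * c.z1 * (c.e.s * y0)⁻¹ = c.e.s * (y0 * c.z1 * y0⁻¹) * c.e.s⁻¹ by group,
          ← hu]
        exact c.e.s_conj _
  · have ha4 : a ∈ four := (invol_dih a had hna).resolve_right hKa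
    have hane : a ≠ 1 ∧ a ≠ z := ⟨fun e => hKa (e ▸ one_mem _), fun e => hKa (e ▸ z_mem_kay)⟩
    exfalso
    by_cases hb4 : b ∈ four
    · by_cases hb1 : b = 1
      · subst hb1
        refine c.not_isB_of_isA hA' (c.isB_four (four.mul_mem ha4 z_mem_four) (fun e => hane.2 ?_)
          (four.mul_mem (one_mem _) z_mem_four) (by decide))
        rwa [mul_eq_one_iff_eq_inv, show z⁻¹ = z by decide] at e
      · exact c.not_isB_of_isA hA (c.isB_four ha4 hane.1 hb4 hb1)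
    · exact c.false_of_moved_VK h ha4 hane ((invol_dih b hbd hnb).resolve_left hb4)
        ⟨fun e => hb4 (e ▸ one_mem _), fun e => hb4 (e ▸ z_mem_four)⟩ hu.symm

end Ctx

end Cfsg.Agent.S4Wr
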