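import Mathlib
import Cfsg.Agent.Lib.S4Wr.Orbit

/-!
Fusion inside the normaliser of `K × K`: only the pattern of the alternating group of degree ten survives.
-/

set_option autoImplicit false
set_option linter.unusedSectionVars false

namespace Cfsg.Agent.S4Wr

open Subgroup Cfsg.Agent.Transfer.Fusion

variable {G : Type*} [Group G]

theorem kay_z_inv : ∀ p : P4, p ∈ kay → v * p * v⁻¹ = p → p = 1 ∨ p = z := by decide +kernel

theorem kay_v_invol : ∀ p : P4, p ∈ kay → p * v * (p * v) = 1 → p = 1 ∨ p = z := by decide +kernel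

theorem kay_ne_mul : ∀ p q : P4, p ∈ kay → q ∈ kay → p ≠ 1 → p ≠ z → q ≠ 1 → q ≠ z →
    p * q = 1 ∨ p * q = z := by decide +kernel

/-- The six elements `z₁, z₂, (k*,k*)` in coordinates. -/
def Six (p : P4 × P4) : Prop :=
  p = (z, 1) ∨ p = (1, z) ∨ (p.1 ≠ 1 ∧ p.1 ≠ z ∧ p.2 ≠ 1 ∧ p.2 ≠ z)

instance : DecidablePred Six := fun p => by unfold Six; infer_instance

theorem six_mul : ∀ p q : P4 × P4, p.1 ∈ kay → p.2 ∈ kay → q.1 ∈ kay → q.2 ∈ kay → Six p → Six q →
    p * q = 1 ∨ p * q = (z, z) ∨ Six (p * q) := by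
  rintro ⟨a, b⟩ ⟨a', b'⟩ ha hb ha' hb'
  rcases ha with rfl | rfl | rfl | rfl <;> rcases hb with rfl | rfl | rfl | rfl <;>
    rcases ha' with rfl | rfl | rfl | rfl <;> rcases hb' with rfl | rfl | rfl | rfl <;> decide +revert

theorem kay_split : ∀ p : P4, p ∈ kay → p = 1 ∨ p = z ∨ (p ≠ 1 ∧ p ≠ z) := fun p _ => by
  by_cases h1 : p = 1
  · exact Or.inl h1
  by_cases h2 : p = z
  · exact Or.inr (Or.inl h2)
  exact Or.inr (Or.inr ⟨h1, h2⟩)

/-- The even part of `D₈ × D₈`. -/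
def evenPart : Subgroup (P4 × P4) where
  carrier := {p | p.1 ∈ dih ∧ p.2 ∈ dih ∧ Equiv.Perm.sign p.1 = Equiv.Perm.sign p.2}
  one_mem' := ⟨one_mem _, one_mem _, rfl⟩
  mul_mem' {a b} ha hb := ⟨mul_mem ha.1 hb.1, mul_mem ha.2.1 hb.2.1, by
    show Equiv.Perm.sign (a.1 * b.1) = Equiv.Perm.sign (a.2 * b.2)
    rw [map_mul, map_mul, ha.2.2, hb.2.2]⟩
  inv_mem' {a} ha := ⟨inv_mem ha.1, inv_mem ha.2.1, by
    show Equiv.Perm.sign a.1⁻¹ = Equiv.Perm.sign a.2⁻¹
    rw [map_inv, map_inv, ha.2.2]⟩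

theorem evenPart_swap : ∀ p ∈ evenPart, p.swap ∈ evenPart := fun _ hp => ⟨hp.2.1, hp.1, hp.2.2.symm⟩

instance : DecidablePred (· ∈ evenPart) := fun p =>
  decidable_of_iff (p.1 ∈ dih ∧ p.2 ∈ dih ∧ Equiv.Perm.sign p.1 = Equiv.Perm.sign p.2) Iff.rfl

theorem card_evenPart : Nat.card evenPart = 32 := by rw [Nat.card_eq_fintype_card]; decide +kernel

theorem sign_cases : ∀ x : P4, x ∈ dih → x * x = 1 →
    (x ∈ four ∧ Equiv.Perm.sign x = 1) ∨ (x ∈ kay ∧ x ≠ 1 ∧ x ≠ z ∧ Equiv.Perm.sign x = -1) := by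
  decide +kernel

namespace Ctx

variable (c : Ctx G) [Finite G]

theorem not_isA_one : ¬ c.IsA (c.ι 1) := fun h => by
  obtain ⟨w, hw⟩ := isConj_iff.1 h
  rw [map_one, conj_eq_one_iff, ← map_one c.ι] at hw
  exact absurd (c.e.inj hw) (by decide)

theorem not_isB_one : ¬ c.IsB (c.ι 1) := fun h => by
  obtain ⟨w, hw⟩ := isConj_iff.1 h
  rw [map_one, conj_eq_one_iff, ← map_one c.ι] at hw
  exact absurd (c.e.inj hw) (by decide)

theorem isConj_kk {a b : P4} (ha : a ∈ kay) (ha' : a ≠ 1 ∧ a ≠ z) (hb : b ∈ kay) (hb' : b ≠ 1 ∧ b ≠ z) :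
    IsConj (c.ι (a, b)) (c.ι (k, k)) :=
  c.isConj_pair (kay_conj_k a ha ha'.1 ha'.2) (kay_conj_k b hb hb'.1 hb'.2)

theorem isConj_k1 {a : P4} (ha : a ∈ kay) (ha' : a ≠ 1 ∧ a ≠ z) :
    IsConj (c.ι (a, 1)) (c.ι (k, 1)) :=
  c.isConj_pair (kay_conj_k a ha ha'.1 ha'.2) ⟨1, by simp⟩

theorem isConj_kz {a : P4} (ha : a ∈ kay) (ha' : a ≠ 1 ∧ a ≠ z) :
    IsConj (c.ι (a, z)) (c.ι (k, z)) :=
  c.isConj_pair (kay_conj_k a ha ha'.1 ha'.2) ⟨1, by simp⟩

theorem isConj_k1' {a : P4} (ha : a ∈ kay) (ha' : a ≠ 1 ∧ a ≠ z) :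
    IsConj (c.ι (1, a)) (c.ι (k, 1)) := (c.isConj_swap 1 a).trans (c.isConj_k1 ha ha')

theorem isConj_kz' {a : P4} (ha : a ∈ kay) (ha' : a ≠ 1 ∧ a ≠ z) :
    IsConj (c.ι (z, a)) (c.ι (k, z)) := (c.isConj_swap z a).trans (c.isConj_kz ha ha')

/-- `(k,k)` is conjugate to `z₁`. -/
theorem isA_kk : c.IsA (c.ι (k, k)) := by
  obtain ⟨y, h, hyN, a, b, ha, hb, hu, hZ⟩ := c.exists_moved_KK
  by_cases hboth : (a ≠ 1 ∧ a ≠ z) ∧ (b ≠ 1 ∧ b ≠ z)
  · exact (hu ▸ c.isA_conj c.isA_z1 y : c.IsA (c.ι (a, b))).trans (c.isConj_kk ha hboth.1 hb hboth.2)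
  by_contra hkk
  have hA : c.IsA (c.ι (a, b)) := hu ▸ c.isA_conj c.isA_z1 y
  have hA' : c.IsA (c.ι (a, b) * c.z0) := hu ▸ c.moved_z2 h ▸ c.isA_conj c.isA_z2 y
  rw [← map_mul, Prod.mk_mul_mk] at hA'
  have hz : ∀ q : P4, q ∈ kay → (q ≠ 1 ∧ q ≠ z) → q * z ∈ kay ∧ (q * z ≠ 1 ∧ q * z ≠ z) := by
    intro q hq
    rcases hq with rfl | rfl | rfl | rfl <;> decide
  obtain ⟨hk1, hkz⟩ : c.IsA (c.ι (k, 1)) ∧ c.IsA (c.ι (k, z)) := by
    rcases kay_split a ha with rfl | rfl | ha' <;> rcases kay_split b hb with rfl | rfl | hb'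
    case inr.inr.inr.inr => exact absurd ⟨ha', hb'⟩ hboth
    case inl.inr.inr =>
      rw [one_mul] at hA'
      obtain ⟨m1, m2⟩ := hz b hb hb'
      exact ⟨hA.trans (c.isConj_k1' hb hb'), hA'.trans (c.isConj_kz' m1 m2)⟩
    case inr.inl.inr.inr =>
      rw [z_mul_z] at hA'
      obtain ⟨m1, m2⟩ := hz b hb hb'
      exact ⟨hA'.trans (c.isConj_k1' m1 m2), hA.trans (c.isConj_kz' hb hb')⟩
    case inr.inr.inl =>
      rw [one_mul] at hA'
      obtain ⟨m1, m2⟩ := hz a ha ha'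
      exact ⟨hA.trans (c.isConj_k1 ha ha'), hA'.trans (c.isConj_kz m1 m2)⟩
    case inr.inr.inr.inl =>
      rw [z_mul_z] at hA'
      obtain ⟨m1, m2⟩ := hz a ha ha'
      exact ⟨hA'.trans (c.isConj_k1 m1 m2), hA.trans (c.isConj_kz ha ha')⟩
    all_goals exact absurd ⟨by simp, by simp⟩ hZ
  have h0 : y * c.z0 * y⁻¹ = c.z0 := mul_inv_eq_iff_eq_mul.2 (mem_centralizer_singleton_iff.1 h.mem)
  have him : ∀ q : P4, q ∈ kay → (q ≠ 1 ∧ q ≠ z) → ∃ p1 p2 : P4, p1 ∈ kay ∧ p2 ∈ kay ∧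
      (p1 ≠ 1 ∧ p1 ≠ z) ∧ (p2 ≠ 1 ∧ p2 ≠ z) ∧ y * c.ι (q, k) * y⁻¹ = c.ι (p1, p2) := by
    intro q hq hq'
    obtain ⟨p1, h1, p2, h2, he⟩ := c.e.mem_box.1
      ((mem_normalizer_iff.1 hyN _).1 ((c.e.ι_mem_box (X := kay) (Y := kay)).2 ⟨hq, k_mem_kay⟩))
    have hno : ¬ c.IsA (c.ι (p1, p2)) := fun hc => hkk <| by
      have := c.isA_conj (he ▸ hc) y⁻¹
      rw [inv_inv, show y⁻¹ * (y * c.ι (q, k) * y⁻¹) * y = c.ι (q, k) by group] at this
      exact this.trans (c.isConj_kk hq hq' k_mem_kay ⟨by decide, by decide⟩)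
    have hne0 : c.ι (p1, p2) ≠ c.z0 := fun e0 => hq'.2 <| by
      rw [he, ← h0, mul_left_inj, mul_right_inj] at e0
      exact congrArg Prod.fst (c.e.inj e0)
    have hne1 : c.ι (p1, p2) ≠ c.ι 1 := fun e1 => hq'.1 <| by
      rw [he, map_one, conj_eq_one_iff, ← map_one c.ι] at e1
      exact congrArg Prod.fst (c.e.inj e1)
    refine ⟨p1, p2, h1, h2, ?_⟩
    rcases kay_split p1 h1 with rfl | rfl | h1' <;> rcases kay_split p2 h2 with rfl | rfl | h2'
    case inr.inr.inr.inr => exact ⟨h1', h2', he.symm⟩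
    case inl.inl => exact absurd rfl hne1
    case inr.inl.inr.inl => exact absurd rfl hne0
    case inl.inr.inl => exact absurd c.isA_z2 hno
    case inr.inl.inl => exact absurd c.isA_z1 hno
    case inl.inr.inr => exact absurd (hk1.trans (c.isConj_k1' h2 h2').symm) hno
    case inr.inl.inr.inr => exact absurd (hkz.trans (c.isConj_kz' h2 h2').symm) hno
    case inr.inr.inl => exact absurd (hk1.trans (c.isConj_k1 h1 h1').symm) hno
    case inr.inr.inr.inl => exact absurd (hkz.trans (c.isConj_kz h1 h1').symm) hno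
  obtain ⟨p1, p2, hp1, hp2, hp1', hp2', hp⟩ := him (z * k) (Or.inr (Or.inr (Or.inr rfl)))
    ⟨by decide, by decide⟩
  obtain ⟨q1, q2, hq1, hq2, hq1', hq2', hq⟩ := him k k_mem_kay ⟨by decide, by decide⟩
  have hfin : c.ι (a, b) = c.ι (p1 * q1, p2 * q2) := by
    rw [← hu, show c.z1 = c.ι (z * k, k) * c.ι (k, k) from
      (congrArg c.ι (Prod.ext (by decide) (by decide))).trans (map_mul c.ι _ _),
      show y * (c.ι (z * k, k) * c.ι (k, k)) * y⁻¹ =
        y * c.ι (z * k, k) * y⁻¹ * (y * c.ι (k, k) * y⁻¹) by group, hp, hq, ← map_mul]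
    rfl
  obtain ⟨rfl, rfl⟩ := Prod.mk.inj (c.e.inj hfin)
  exact hZ ⟨kay_ne_mul _ _ hp1 hq1 hp1'.1 hp1'.2 hq1'.1 hq1'.2,
    kay_ne_mul _ _ hp2 hq2 hp2'.1 hp2'.2 hq2'.1 hq2'.2⟩

/-- The classes meeting `K × K`. -/
theorem KK_class {p : P4 × P4} (h1 : p.1 ∈ kay) (h2 : p.2 ∈ kay) (hne : p ≠ 1) :
    (Six p ∧ c.IsA (c.ι p)) ∨ p = (z, z) ∨
      IsConj (c.ι p) (c.ι (k, 1)) ∨ IsConj (c.ι p) (c.ι (k, z)) := by
  obtain ⟨a, b⟩ := p
  rcases kay_split a h1 with rfl | rfl | h1' <;> rcases kay_split b h2 with rfl | rfl | h2'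
  case inl.inl => exact absurd rfl hne
  case inr.inl.inr.inl => exact Or.inr (Or.inl rfl)
  case inl.inr.inl => exact Or.inl ⟨Or.inr (Or.inl rfl), c.isA_z2⟩
  case inr.inl.inl => exact Or.inl ⟨Or.inl rfl, c.isA_z1⟩
  case inr.inr.inr.inr =>
    exact Or.inl ⟨Or.inr (Or.inr ⟨h1'.1, h1'.2, h2'.1, h2'.2⟩),
      c.isA_kk.trans (c.isConj_kk h1 h1' h2 h2').symm⟩
  case inl.inr.inr => exact Or.inr (Or.inr (Or.inl (c.isConj_k1' h2 h2')))
  case inr.inl.inr.inr => exact Or.inr (Or.inr (Or.inr (c.isConj_kz' h2 h2')))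
  case inr.inr.inl => exact Or.inr (Or.inr (Or.inl (c.isConj_k1 h1 h1')))
  case inr.inr.inr.inl => exact Or.inr (Or.inr (Or.inr (c.isConj_kz h1 h1')))

theorem control_KK {p q : P4 × P4} (hp : p.1 ∈ kay ∧ p.2 ∈ kay) (hq : q.1 ∈ kay ∧ q.2 ∈ kay)
    (h : IsConj (c.ι p) (c.ι q)) : ∃ n ∈ normalizer (c.KK : Set G), n * c.ι p * n⁻¹ = c.ι q :=
  c.control (Or.inr rfl) (c.e.ι_mem_box.2 hp) (c.e.ι_mem_box.2 hq) h

/-- The case where both classes `(k,1)` and `(k,z)` meet the class of `z₀`. -/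
theorem false_of_isB_both (hk1 : c.IsB (c.ι (k, 1))) (hkz : c.IsB (c.ι (k, z))) : False := by
  obtain ⟨n, hn, he⟩ := c.control_KK (p := (z, z)) (q := (k, 1)) ⟨z_mem_kay, z_mem_kay⟩
    ⟨k_mem_kay, one_mem _⟩ hk1
  have him : ∀ p : P4 × P4, p.1 ∈ kay → p.2 ∈ kay → c.IsA (c.ι p) →
      ∃ q : P4 × P4, q.1 ∈ kay ∧ q.2 ∈ kay ∧ Six q ∧ n * c.ι p * n⁻¹ = c.ι q := by
    intro p h1 h2 hA
    obtain ⟨a, ha, b, hb, hab⟩ := c.e.mem_box.1
      ((mem_normalizer_iff.1 hn _).1 ((c.e.ι_mem_box (X := kay) (Y := kay)).2 ⟨h1, h2⟩))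
    refine ⟨(a, b), ha, hb, ?_, hab.symm⟩
    have hA' : c.IsA (c.ι (a, b)) := hab.symm ▸ c.isA_conj hA n
    rcases c.KK_class (p := (a, b)) ha hb (fun e => c.not_isA_one (e ▸ hA')) with h | h | h | h
    · exact h.1
    · exact absurd (h ▸ c.isB_z0) (c.not_isB_of_isA hA')
    · exact absurd (hk1.trans h.symm) (c.not_isB_of_isA hA')
    · exact absurd (hkz.trans h.symm) (c.not_isB_of_isA hA')
  obtain ⟨q, hq1, hq2, hq3, hq⟩ := him (z, 1) z_mem_kay (one_mem _) c.isA_z1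
  obtain ⟨q', hq1', hq2', hq3', hq'⟩ := him (1, z) (one_mem _) z_mem_kay c.isA_z2
  have hmul : c.ι (q * q') = c.ι (k, 1) := by
    rw [← he, map_mul, ← hq, ← hq', show c.ι (z, z) = c.ι (z, 1) * c.ι (1, z) from
      (congrArg c.ι (by decide : ((z, z) : P4 × P4) = (z, 1) * (1, z))).trans (map_mul c.ι _ _)]
    group
  have h2 := c.e.inj hmul
  rcases six_mul q q' hq1 hq2 hq1' hq2' hq3 hq3' with h | h | h
  all_goals rw [h2] at h
  · exact absurd h (by decide)
  · exact absurd h (by decide)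
  · exact absurd h (by decide)

theorem normalizer_KK_le_C (hk1 : ¬ c.IsB (c.ι (k, 1))) (hkz : ¬ c.IsB (c.ι (k, z))) :
    normalizer (c.KK : Set G) ≤ c.C := by
  intro n hn
  obtain ⟨a, ha, b, hb, hab⟩ := c.e.mem_box.1
    ((mem_normalizer_iff.1 hn _).1 ((c.e.ι_mem_box (X := kay) (Y := kay)).2 ⟨z_mem_kay, z_mem_kay⟩))
  have hB : c.IsB (c.ι (a, b)) := hab.symm ▸ c.isB_conj c.isB_z0 n
  rcases c.KK_class (p := (a, b)) ha hb (fun e => c.not_isB_one (e ▸ hB)) with h | h | h | h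
  · exact absurd hB (c.not_isB_of_isA h.2)
  · rw [h] at hab
    exact mem_centralizer_singleton_iff.2 (mul_inv_eq_iff_eq_mul.1 hab.symm)
  · exact absurd (hB.trans h) hk1
  · exact absurd (hB.trans h) hkz

/-- Exactly one of `(k,1)`, `(k,z)` conjugate to `z₁` is impossible. -/
theorem false_of_one_isA (hk1 : ¬ c.IsB (c.ι (k, 1))) (hkz : ¬ c.IsB (c.ι (k, z))) {w : P4}
    (hw : w = 1 ∨ w = z) (hA : c.IsA (c.ι (k, w))) (hno : ¬ c.IsA (c.ι (k, w) * c.z0)) : False := by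
  obtain ⟨n, hn, he⟩ := c.control_KK (p := (z, 1)) (q := (k, w)) ⟨z_mem_kay, one_mem _⟩
    ⟨k_mem_kay, by rcases hw with rfl | rfl <;> [exact one_mem _; exact z_mem_kay]⟩ hA
  apply hno
  have h0 : n * c.z0 * n⁻¹ = c.z0 :=
    mul_inv_eq_iff_eq_mul.2 (mem_centralizer_singleton_iff.1 (c.normalizer_KK_le_C hk1 hkz hn))
  rw [← he, ← h0, show n * c.ι (z, 1) * n⁻¹ * (n * c.z0 * n⁻¹) = n * (c.ι (z, 1) * c.z0) * n⁻¹ by group,
    ← map_mul, Prod.mk_mul_mk, z_mul_z, one_mul]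
  exact c.isA_conj c.isA_z2 n

/-- `(k,1)` and `(k,z)` outside both classes both fuse to `s`, hence to each other. -/
theorem isConj_s_of_odd {p : P4} (hp : p = 1 ∨ p = z) (hA : ¬ c.IsA (c.ι (k, p)))
    (hB : ¬ c.IsB (c.ι (k, p))) : IsConj (c.ι (k, p)) c.e.s := by
  let P := c.e.ext evenPart evenPart_swap
  have hP : P ≤ c.e.syl := fun g ⟨q, hq, h⟩ => ⟨q, ⟨hq.1, hq.2.1⟩, h⟩
  have hcard : Nat.card P = 64 := by rw [c.e.card_ext, card_evenPart]
  have hord : orderOf (c.ι (k, p)) = 2 := c.orderOf_pair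
    (Prod.ext (show k * k = 1 by decide) (by rcases hp with rfl | rfl <;> decide))
    (fun e => absurd (congrArg Prod.fst e) (show k ≠ 1 by decide))
  obtain ⟨g, hg⟩ := c.exists_conj_mem_of_index_two hP hcard hord
  have hconj : IsConj (c.ι (k, p)) (g * c.ι (k, p) * g⁻¹) := isConj_iff.2 ⟨g, rfl⟩
  have hsq : g * c.ι (k, p) * g⁻¹ * (g * c.ι (k, p) * g⁻¹) = 1 :=
    (Involutions.Basic.orderOf_two_iff.1 ((Involutions.Basic.orderOf_conj g _).trans hord)).1
  obtain ⟨⟨a, b⟩, ⟨ha, hb, hsgn⟩, he | he⟩ := hg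
  · exfalso
    rw [he] at hconj hsq
    rw [← map_mul, ← map_one c.ι] at hsq
    rcases sign_cases a ha (congrArg Prod.fst (c.e.inj hsq)) with ⟨a4, as⟩ | ⟨ak, a1, az, as⟩ <;>
      rcases sign_cases b hb (congrArg Prod.snd (c.e.inj hsq)) with ⟨b4, bs⟩ | ⟨bk, b1, bz, bs⟩ <;>
        simp only [as, bs] at hsgn
    · by_cases ha1 : a = 1
      · subst ha1
        by_cases hb1 : b = 1
        · subst hb1
          rw [Prod.mk_one_one, map_one, isConj_one_left] at hconj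
          exact absurd (congrArg Prod.fst (c.e.inj (hconj.trans (map_one c.ι).symm)))
            (show k ≠ 1 by decide)
        · exact hA ((c.isA_snd b4 hb1).trans hconj.symm)
      · by_cases hb1 : b = 1
        · subst hb1
          exact hA ((c.isA_fst a4 ha1).trans hconj.symm)
        · exact hB ((c.isB_four a4 ha1 b4 hb1).trans hconj.symm)
    · exact absurd hsgn (by decide)
    · exact absurd hsgn (by decide)
    · exact hA ((c.isA_kk.trans (c.isConj_kk ak ⟨a1, az⟩ bk ⟨b1, bz⟩).symm).trans hconj.symm)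
  · rw [he] at hconj hsq
    rw [mul_assoc, ← mul_assoc c.e.s, c.e.s_swap, ← map_mul, ← map_one c.ι] at hsq
    have hab : a * b = 1 := congrArg Prod.fst (c.e.inj hsq)
    refine hconj.trans (isConj_iff.2 ⟨(c.ι (a, 1))⁻¹, ?_⟩)
    rw [inv_inv, show (c.ι (a, 1))⁻¹ * (c.ι (a, b) * c.e.s) * c.ι (a, 1) =
      (c.ι (a, 1))⁻¹ * c.ι (a, b) * (c.e.s * c.ι (a, 1)) by group, c.e.s_mul, ← mul_assoc, ← map_inv,
      ← map_mul, ← map_mul, show ((a, (1 : P4))⁻¹ * (a, b) * ((a, (1 : P4)) : P4 × P4).swap) = 1 from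
        Prod.ext (by simp) (by simp [eq_inv_of_mul_eq_one_right hab]), map_one, one_mul]

/-- The eight elements of `K × K` outside the ten. -/
def eight : Fin 8 → P4 × P4
  | 0 => (k, 1) | 1 => (z * k, 1) | 2 => (1, k) | 3 => (1, z * k)
  | 4 => (k, z) | 5 => (z * k, z) | 6 => (z, k) | 7 => (z, z * k)

theorem eight_injective : Function.Injective eight := by decide

theorem eight_mem : ∀ i, (eight i).1 ∈ kay ∧ (eight i).2 ∈ kay := by decide

theorem eight_cases {p : P4 × P4} (h1 : p.1 ∈ kay) (h2 : p.2 ∈ kay) (hne : p ≠ 1) :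
    Six p ∨ p = (z, z) ∨ ∃ i, p = eight i := by
  obtain ⟨a, b⟩ := p
  rcases h1 with rfl | rfl | rfl | rfl <;> rcases h2 with rfl | rfl | rfl | rfl <;>
    first | exact absurd rfl hne | exact Or.inr (Or.inl rfl) | (left; decide) |
      (right; right; decide)

theorem Six_isA {p : P4 × P4} (h1 : p.1 ∈ kay) (h2 : p.2 ∈ kay) (h : Six p) : c.IsA (c.ι p) := by
  obtain ⟨a, b⟩ := p
  rcases h with h | h | ⟨u1, u2, u3, u4⟩
  · rw [h]; exact c.isA_z1
  · rw [h]; exact c.isA_z2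
  · exact c.isA_kk.trans (c.isConj_kk h1 ⟨u1, u2⟩ h2 ⟨u3, u4⟩).symm

/-- Both `(k,1)` and `(k,z)` outside the two classes is impossible. -/
theorem false_of_none (hk1 : ¬ c.IsB (c.ι (k, 1))) (hkz : ¬ c.IsB (c.ι (k, z)))
    (hk1' : ¬ c.IsA (c.ι (k, 1))) (hkz' : ¬ c.IsA (c.ι (k, z))) : False := by
  have hconj : IsConj (c.ι (k, 1)) (c.ι (k, z)) :=
    (c.isConj_s_of_odd (Or.inl rfl) hk1' hk1).trans (c.isConj_s_of_odd (Or.inr rfl) hkz' hkz).symm
  set N := normalizer (c.KK : Set G)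
  letI : MulAction N G := MulAction.compHom G ((MulAut.conj : G →* MulAut G).comp N.subtype)
  have hsmul : ∀ (n : N) (x : G), n • x = (n : G) * x * (n : G)⁻¹ := fun n x => rfl
  have hall : ∀ i, IsConj (c.ι (k, 1)) (c.ι (eight i)) := by
    have h' : ∀ {a b : P4}, IsConj (c.ι (a, b)) (c.ι (k, 1)) → IsConj (c.ι (k, 1)) (c.ι (a, b)) :=
      fun h => h.symm
    have hzk : z * k ∈ kay ∧ (z * k ≠ 1 ∧ z * k ≠ z) :=
      ⟨Or.inr (Or.inr (Or.inr rfl)), by decide, by decide⟩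
    have hk : k ∈ kay ∧ (k ≠ 1 ∧ k ≠ z) := ⟨k_mem_kay, by decide, by decide⟩
    intro i
    fin_cases i
    exacts [IsConj.refl _, (c.isConj_k1 hzk.1 hzk.2).symm, (c.isConj_k1' hk.1 hk.2).symm,
      (c.isConj_k1' hzk.1 hzk.2).symm, hconj, hconj.trans (c.isConj_kz hzk.1 hzk.2).symm,
      hconj.trans (c.isConj_kz' hk.1 hk.2).symm, hconj.trans (c.isConj_kz' hzk.1 hzk.2).symm]
  have horb : MulAction.orbit N (c.ι (k, 1)) = Set.range (fun i => c.ι (eight i)) := by
    ext x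
    constructor
    · rintro ⟨n, rfl⟩
      obtain ⟨a, ha, b, hb, hab⟩ := c.e.mem_box.1
        ((mem_normalizer_iff.1 n.2 _).1 ((c.e.ι_mem_box (X := kay) (Y := kay)).2 ⟨k_mem_kay, one_mem _⟩))
      have hc : IsConj (c.ι (k, 1)) (c.ι (a, b)) := hab.symm ▸ isConj_iff.2 ⟨(n : G), rfl⟩
      have hne : (a, b) ≠ (1 : P4 × P4) := fun h1 => by
        rw [h1, map_one, isConj_one_left] at hc
        exact absurd (congrArg Prod.fst (c.e.inj (hc.trans (map_one c.ι).symm))) (by decide)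
      rcases eight_cases (p := (a, b)) ha hb hne with h | h | ⟨i, h⟩
      · exact absurd ((c.Six_isA (p := (a, b)) ha hb h).trans hc.symm) hk1'
      · exact absurd ((show c.IsB (c.ι (a, b)) from h ▸ c.isB_z0).trans hc.symm) hk1
      · exact ⟨i, (congrArg c.ι h.symm).trans hab⟩
    · rintro ⟨i, rfl⟩
      obtain ⟨n, hn, he⟩ := c.control_KK (p := (k, 1)) ⟨k_mem_kay, one_mem _⟩ (eight_mem i) (hall i)
      exact ⟨⟨n, hn⟩, he⟩
  have h8 : (MulAction.stabilizer N (c.ι (k, 1))).index = 8 := by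
    rw [MulAction.index_stabilizer, horb, Set.ncard_range_of_injective (f := fun i => c.ι (eight i))
      (c.e.inj.comp eight_injective), Nat.card_fin]
  have h32 : 32 ∣ Nat.card (MulAction.stabilizer N (c.ι (k, 1))) := by
    have hle : (c.e.box kay dih).subgroupOf N ≤ MulAction.stabilizer N (c.ι (k, 1)) := by
      intro w hw
      obtain ⟨a, ha, b, hb, hab⟩ := c.e.mem_box.1 (hw : (w : G) ∈ c.e.box kay dih)
      show w • c.ι (k, 1) = _
      rw [Subgroup.coe_subtype] at hab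
      rw [hsmul, ← hab, c.e.conj_ι]
      exact congrArg c.ι (Prod.ext (mul_inv_eq_iff_eq_mul.2 (comm_kay a k ha k_mem_kay))
        (by simp))
    have := card_dvd_of_le hle
    rwa [Nat.card_congr (subgroupOfEquivOfLe (((c.e.box_mono kay_le_dih le_rfl).trans
      c.e.base_le_syl).trans c.syl_le_normalizer_KK)).toEquiv, c.e.card_box, card_kay, card_dih] at this
  have h256 : 2 ^ 8 ∣ Nat.card G := by
    refine dvd_trans ?_ (Subgroup.card_subgroup_dvd_card N)
    rw [← (MulAction.stabilizer N (c.ι (k, 1))).card_mul_index, h8]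
    obtain ⟨u, hu⟩ := h32
    exact ⟨u, by rw [hu]; ring⟩
  haveI : Fact (Nat.Prime 2) := ⟨Nat.prime_two⟩
  obtain ⟨P, hP⟩ := Sylow.exists_subgroup_card_pow_prime 2 h256
  obtain ⟨Q, hQ⟩ := (IsPGroup.of_card hP).exists_le_sylow
  have := Subgroup.card_le_of_le hQ
  rw [hP, Sylow.card_eq_multiplicity, ← Sylow.card_eq_multiplicity c.T, c.hT, c.e.card_syl] at this
  omega

/-- Both `(k,1)` and `(k,z)` conjugate to `z₁` is impossible. -/
theorem false_of_both_isA (hk1 : c.IsA (c.ι (k, 1))) (hkz : c.IsA (c.ι (k, z))) : False := by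
  haveI : Fact (Nat.Prime 2) := ⟨Nat.prime_two⟩
  haveI : Fact (Nat.Prime 7) := ⟨by norm_num⟩
  set N := normalizer (c.KK : Set G) with hN
  have hNC : N ≤ c.C := c.normalizer_KK_le_C (c.not_isB_of_isA hk1) (c.not_isB_of_isA hkz)
  letI : MulAction N G := MulAction.compHom G ((MulAut.conj : G →* MulAut G).comp N.subtype)
  have hmemA : ∀ p : P4 × P4, p.1 ∈ kay → p.2 ∈ kay → p ≠ 1 → p ≠ (z, z) → c.IsA (c.ι p) := by
    intro p h1 h2 h3 h4
    rcases c.KK_class h1 h2 h3 with h | h | h | h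
    exacts [h.2, absurd h h4, hk1.trans h.symm, hkz.trans h.symm]
  let fourteen : Fin 8 ⊕ Fin 6 → P4 × P4 := fun x => match x with
    | Sum.inl i => eight i
    | Sum.inr 0 => (z, 1) | Sum.inr 1 => (1, z) | Sum.inr 2 => (k, k) | Sum.inr 3 => (k, z * k)
    | Sum.inr 4 => (z * k, k) | Sum.inr 5 => (z * k, z * k)
  have h14 : ∀ x, (fourteen x).1 ∈ kay ∧ (fourteen x).2 ∈ kay ∧ fourteen x ≠ 1 ∧ fourteen x ≠ (z, z) := by
    decide +kernel
  have h14inj : Function.Injective fourteen := by decide +kernel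
  have h14cov : ∀ a b : P4, a ∈ kay → b ∈ kay → (a, b) ≠ 1 → (a, b) ≠ (z, z) → ∃ x, fourteen x = (a, b) := by
    intro a b ha hb h1 h2
    rcases ha with rfl | rfl | rfl | rfl <;> rcases hb with rfl | rfl | rfl | rfl <;>
      first
        | exact absurd rfl h1
        | exact absurd rfl h2
        | decide +kernel
  have horb : MulAction.orbit N c.z1 = Set.range (fun x => c.ι (fourteen x)) := by
    ext x
    constructor
    · rintro ⟨n, rfl⟩
      obtain ⟨a, ha, b, hb, hab⟩ := c.e.mem_box.1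
        ((mem_normalizer_iff.1 n.2 _).1 ((c.e.ι_mem_box (X := kay) (Y := kay)).2 ⟨z_mem_kay, one_mem _⟩))
      have hA : c.IsA (c.ι (a, b)) := hab.symm ▸ c.isA_conj c.isA_z1 (n : G)
      obtain ⟨x, hx⟩ := h14cov a b ha hb (fun e => c.not_isA_one (e ▸ hA))
        (fun e => c.not_isB_of_isA hA (e ▸ c.isB_z0))
      exact ⟨x, by show c.ι (fourteen x) = _; rw [hx]; exact hab⟩
    · rintro ⟨x, rfl⟩
      obtain ⟨h1, h2, h3, h4⟩ := h14 x
      obtain ⟨n, hn, he⟩ := c.control_KK (p := (z, 1)) ⟨z_mem_kay, one_mem _⟩ ⟨h1, h2⟩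
        (hmemA _ h1 h2 h3 h4)
      exact ⟨⟨n, hn⟩, he⟩
  have hbN : c.e.base ≤ N := c.e.base_le_syl.trans c.syl_le_normalizer_KK
  have hstab : MulAction.stabilizer N c.z1 = c.e.base.subgroupOf N := by
    ext w
    rw [mem_subgroupOf, ← c.H_eq]
    constructor
    · intro (hw : (w : G) * c.z1 * (w : G)⁻¹ = c.z1)
      have h1 := (mul_inv_eq_iff_eq_mul.1 hw).symm
      have h0 := mem_centralizer_singleton_iff.1 (hNC w.2)
      have h2 : c.z2 = c.z1 * c.z0 := by
        rw [← map_mul]; exact congrArg c.ι (Prod.ext (z_mul_z).symm (one_mul _).symm)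
      exact c.mem_H.2 ⟨h1, by rw [h2, mul_assoc, ← h0, ← mul_assoc, h1, mul_assoc]⟩
    · intro hw
      show (w : G) * c.z1 * (w : G)⁻¹ = c.z1
      exact mul_inv_eq_iff_eq_mul.2 (c.mem_H.1 hw).1.symm
  have hcardN : Nat.card N = 896 := by
    rw [← (MulAction.stabilizer N c.z1).card_mul_index, MulAction.index_stabilizer, horb,
      Set.ncard_range_of_injective (f := fun x => c.ι (fourteen x)) (c.e.inj.comp h14inj), hstab,
      Nat.card_congr (subgroupOfEquivOfLe hbN).toEquiv, c.e.card_base, Nat.card_sum, Nat.card_fin,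
      Nat.card_fin]
  let ψ := normalizerMonoidHom c.KK
  have hker : Nat.card ψ.ker = 16 := by
    have hle : centralizer (c.KK : Set G) = c.KK := le_antisymm c.centralizer_KK fun x hx y hy =>
      (c.box_isE16 (Or.inr rfl) (Or.inr rfl)).2.1 y hy x hx
    rw [normalizerMonoidHom_ker, hle, Nat.card_congr (subgroupOfEquivOfLe le_normalizer).toEquiv,
      c.e.card_box, card_kay]
  set Y := ψ.range with hY
  have hcardY : Nat.card Y = 56 := by
    have := ψ.ker.card_mul_index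
    rw [index_ker, hker, hcardN] at this
    show Nat.card ψ.range = 56
    omega
  let η : N →* Y := ψ.rangeRestrict
  have hη : Function.Surjective η := ψ.rangeRestrict_surjective
  let Tb : Subgroup Y := (c.e.syl.subgroupOf N).map η
  have hTb2 : IsPGroup 2 Tb := c.isPGroup_syl.comap_subtype.map η
  have hηker : ∀ w : N, η w = 1 → (w : G) ∈ c.KK := fun w hw => by
    have h : w ∈ ψ.ker := congrArg Subtype.val hw
    rw [normalizerMonoidHom_ker] at h
    exact c.centralizer_KK h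
  have hTbcomap : Tb.comap η = c.e.syl.subgroupOf N := by
    rw [comap_map_eq, sup_eq_left]
    exact fun w hw => c.e.base_le_syl (c.KK_le_base (hηker w hw))
  let P : Sylow 7 Y := default
  have hP7 : Nat.card P = 7 := by
    rw [P.card_eq_multiplicity, hcardY, show (56 : ℕ) = 2 ^ 3 * 7 by norm_num,
      Nat.factorization_mul (by norm_num) (by norm_num), Nat.factorization_pow]
    simp [Nat.Prime.factorization_self (by norm_num : Nat.Prime 7),
      Nat.factorization_eq_zero_of_not_dvd (by norm_num : ¬ 7 ∣ 2)]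
  have hidx : (P : Subgroup Y).index = 8 := by
    have := (P : Subgroup Y).card_mul_index
    rw [hcardY, hP7] at this
    omega
  have hn7 : Nat.card (Sylow 7 Y) = 1 ∨ Nat.card (Sylow 7 Y) = 8 := by
    have h1 : Nat.card (Sylow 7 Y) ∣ 8 := hidx ▸ P.card_dvd_index
    have h2 : Nat.card (Sylow 7 Y) % 7 = 1 % 7 := card_sylow_modEq_one 7 Y
    have h3 := Nat.le_of_dvd (by norm_num) h1
    interval_cases (Nat.card (Sylow 7 Y)) <;> simp_all
  haveI : Fact (Nat.card P).Prime := ⟨by rw [hP7]; norm_num⟩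
  haveI hPc : IsCyclic P := isCyclic_of_prime_card rfl
  rcases hn7 with h1 | h8
  · -- a normal subgroup of order seven
    haveI : Subsingleton (Sylow 7 Y) := (Nat.card_eq_one_iff_unique.1 h1).1
    haveI : (P : Subgroup Y).Normal := Sylow.normal_of_subsingleton P
    obtain ⟨g', hg'⟩ := hPc.exists_generator
    obtain ⟨g, hg⟩ := hη g'.1
    let j : N := ⟨c.ι (v, v), c.syl_le_normalizer_KK (c.e.mem_syl_iff.2 ⟨v_mem_dih, v_mem_dih⟩)⟩
    have hjP : η j * g'.1 * (η j)⁻¹ = g'.1 := by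
      let sn : N := ⟨c.e.s, c.syl_le_normalizer_KK c.e.s_mem_syl⟩
      let vn : N := ⟨c.ι (v, 1), c.syl_le_normalizer_KK (c.e.mem_syl_iff.2 ⟨v_mem_dih, one_mem _⟩)⟩
      have hj : j = vn * sn * vn⁻¹ * sn⁻¹ := Subtype.ext (by
        show c.ι (v, v) = c.ι (v, 1) * c.e.s * (c.ι (v, 1))⁻¹ * c.e.s⁻¹
        rw [c.e.s_inv, mul_assoc (c.ι (v, 1)), mul_assoc (c.ι (v, 1)), ← map_inv, c.e.s_swap, ← map_mul]
        exact congrArg c.ι (Prod.ext (by decide) (by decide)))
      let κ : Y →* MulAut (P : Subgroup Y) := MulAut.conjNormal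
      have hcomm : ∀ a b : MulAut (P : Subgroup Y), a * b = b * a := fun a b => by
        obtain ⟨m, hm⟩ := MonoidHom.map_cyclic a.toMonoidHom
        obtain ⟨l, hl⟩ := MonoidHom.map_cyclic b.toMonoidHom
        refine MulEquiv.ext fun x => ?_
        show a (b x) = b (a x)
        rw [show b x = x ^ l from hl x, show a x = x ^ m from hm x, map_zpow, map_zpow,
          show a x = x ^ m from hm x, show b x = x ^ l from hl x, ← zpow_mul, ← zpow_mul, mul_comm]
      have hk : κ (η j) = 1 := by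
        rw [hj, map_mul, map_mul, map_mul, map_mul, map_mul, map_mul, map_inv, map_inv, map_inv, map_inv,
          hcomm (κ (η vn)) (κ (η sn)), mul_inv_cancel_right, mul_inv_cancel]
      have := congrArg Subtype.val (DFunLike.congr_fun hk g')
      simpa [κ, MulAut.conjNormal_apply] using this
    have hgj : ((g * j * g⁻¹ * j⁻¹ : N) : G) ∈ c.KK := hηker _ (by
      rw [map_mul, map_mul, map_mul, map_inv, map_inv, hg]
      rw [mul_inv_eq_iff_eq_mul] at hjP
      rw [← hjP, mul_inv_cancel_right, mul_inv_cancel])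
    obtain ⟨a, ha, b, hb, hab⟩ := c.e.mem_box.1
      ((mem_normalizer_iff.1 g.2 _).1 ((c.e.ι_mem_box (X := kay) (Y := kay)).2 ⟨z_mem_kay, one_mem _⟩))
    have hfix : c.ι (v, v) * c.ι (a, b) * (c.ι (v, v))⁻¹ = c.ι (a, b) := by
      rw [hab]
      set u := (g : G) * c.z1 * (g : G)⁻¹ with hu
      obtain ⟨w, hwK, hw⟩ : ∃ w ∈ c.KK, w * c.ι (v, v) = (g : G) * c.ι (v, v) * (g : G)⁻¹ :=
        ⟨_, hgj, by
          show (g : G) * c.ι (v, v) * (g : G)⁻¹ * (c.ι (v, v))⁻¹ * c.ι (v, v) = _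
          group⟩
      have hwu : w * u = u * w :=
        (c.box_isE16 (Or.inr rfl) (Or.inr rfl)).2.1 w hwK u (hab ▸ c.e.ι_mem_box.2 ⟨ha, hb⟩)
      have hzj : c.z1 * c.ι (v, v) = c.ι (v, v) * c.z1 := by
        rw [← map_mul, ← map_mul]
        exact congrArg c.ι (Prod.ext (by decide) (by decide))
      have hju : w * c.ι (v, v) * u = u * (w * c.ι (v, v)) := by
        rw [hw, hu]
        calc (g : G) * c.ι (v, v) * (g : G)⁻¹ * ((g : G) * c.z1 * (g : G)⁻¹)
            = g * (c.ι (v, v) * c.z1) * (g : G)⁻¹ := by group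
          _ = g * (c.z1 * c.ι (v, v)) * (g : G)⁻¹ := by rw [hzj]
          _ = _ := by group
      rw [mul_inv_eq_iff_eq_mul]
      refine mul_left_cancel (a := w) ?_
      rw [← mul_assoc, hju, ← mul_assoc, ← mul_assoc, hwu]
    rw [c.conj_pair] at hfix
    obtain ⟨hfa, hfb⟩ := Prod.mk.inj (c.e.inj hfix)
    have hgT : (g : G) ∈ c.e.syl := by
      refine c.mem_syl_of_conj_z1 (hNC g.2) ?_
      have hA : c.IsA (c.ι (a, b)) := hab.symm ▸ c.isA_conj c.isA_z1 (g : G)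
      rcases kay_z_inv a ha hfa with rfl | rfl <;> rcases kay_z_inv b hb hfb with rfl | rfl
      · exact absurd hA c.not_isA_one
      · exact Or.inr hab.symm
      · exact Or.inl hab.symm
      · exact absurd c.isB_z0 (c.not_isB_of_isA hA)
    have hord : orderOf g'.1 = 7 := by
      rw [Subgroup.orderOf_coe, orderOf_eq_card_of_forall_mem_zpowers hg', hP7]
    obtain ⟨m, hm⟩ := hTb2 ⟨g'.1, ⟨g, hgT, hg⟩⟩
    have : orderOf g'.1 ∣ 2 ^ m := orderOf_dvd_of_pow_eq_one (congrArg Subtype.val hm)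
    rw [hord] at this
    exact absurd ((Nat.prime_dvd_prime_iff_eq (by norm_num) Nat.prime_two).1
      ((by norm_num : Nat.Prime 7).dvd_of_dvd_pow this)) (by norm_num)
  · -- a normal subgroup of order eight
    have hnorm : normalizer ((P : Subgroup Y) : Set Y) = (P : Subgroup Y) := by
      refine (eq_of_le_of_card_ge le_normalizer (le_of_eq ?_)).symm
      have := (normalizer ((P : Subgroup Y) : Set Y)).card_mul_index
      have h9 : (normalizer ((P : Subgroup Y) : Set Y)).index = 8 :=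
        P.card_eq_index_normalizer.symm.trans h8
      rw [h9, hcardY] at this
      omega
    have hcompl := Cfsg.Agent.Transfer.NormalPComplement.hasNormalPComplement_of_normalizer_le_centralizer P
      (hnorm.le.trans (fun x hx y hy => by
        obtain ⟨g', hg'⟩ := hPc.exists_generator
        obtain ⟨i, hi⟩ := mem_zpowers_iff.1 (hg' ⟨x, hx⟩)
        obtain ⟨l, hl⟩ := mem_zpowers_iff.1 (hg' ⟨y, hy⟩)
        rw [← show ((g' : Y)) ^ i = x from congrArg Subtype.val hi,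
          ← show ((g' : Y)) ^ l = y from congrArg Subtype.val hl, ← zpow_add, ← zpow_add, add_comm]))
    obtain ⟨m, hm⟩ := Cfsg.Agent.Transfer.NormalPComplement.hasNormalPComplement_iff_pPrimeCore.1 hcompl
    set K := Cfsg.pPrimeCore 7 Y with hKdef
    have hK8 : Nat.card K = 8 := by
      have h := K.card_mul_index
      have hco : (Nat.card K).Coprime 7 := Cfsg.Agent.PLocal.Cores.coprime_card_pPrimeCore
      rw [hm, hcardY] at h
      rcases m with _ | _ | m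
      · rw [pow_zero, mul_one] at h; rw [h] at hco; norm_num at hco
      · omega
      · have hd : 49 ∣ 56 := h ▸ (Dvd.dvd.mul_left (pow_dvd_pow 7 (by omega : 2 ≤ m + 1 + 1)) _)
        norm_num at hd
    haveI hKn : K.Normal := by
      haveI := Cfsg.Agent.PLocal.Cores.pPrimeCore_characteristic (p := 7) (G := Y)
      infer_instance
    have hKT : Tb ≤ K := by
      have hK2 : IsPGroup 2 K := IsPGroup.of_card (n := 3) (by rw [hK8]; norm_num)
      have hsup : IsPGroup 2 ↥(K ⊔ Tb) := IsPGroup.to_sup_of_normal_left' hK2 hTb2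
        (le_top.trans (Subgroup.normalizer_eq_top (H := K)).ge)
      obtain ⟨i, hi⟩ := hsup.exists_card_eq
      have hd : 2 ^ i ∣ 56 := by rw [← hi, ← hcardY]; exact Subgroup.card_subgroup_dvd_card _
      have hle : i ≤ 3 := by
        by_contra hc
        have := (pow_dvd_pow 2 (show 4 ≤ i by omega)).trans hd
        norm_num at this
      refine le_sup_right.trans (eq_of_le_of_card_ge le_sup_left ?_).ge
      rw [hi, hK8]
      exact (Nat.pow_le_pow_right two_pos hle).trans (le_refl 8)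
    have hTK : Tb = K := by
      refine eq_of_le_of_card_ge hKT ?_
      have h := card_comap_eq_of_surjective η hη Tb
      rw [hTbcomap, Nat.card_congr (subgroupOfEquivOfLe c.syl_le_normalizer_KK).toEquiv, c.e.card_syl,
        show Nat.card η.ker = 16 by
          rw [← hker]; exact congrArg (fun S : Subgroup N => Nat.card S) ψ.ker_rangeRestrict] at h
      omega
    haveI : (c.e.syl.subgroupOf N).Normal := by rw [← hTbcomap, hTK]; infer_instance
    have hle : N ≤ c.e.syl := by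
      rw [← c.normalizer_syl]
      exact (normal_subgroupOf_iff_le_normalizer c.syl_le_normalizer_KK).1 inferInstance
    have := Subgroup.card_le_of_le hle
    rw [hcardN, c.e.card_syl] at this
    omega
  where
    card_comap_eq_of_surjective {A B : Type _} [Group A] [Group B] (f : A →* B) (hf : Function.Surjective f)
        (K : Subgroup B) : Nat.card (K.comap f) = Nat.card f.ker * Nat.card K :=
      Cfsg.Agent.PLocal.Cores.card_comap_eq K hf

/-- Only the pattern of the alternating group of degree ten remains. -/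
theorem pattern : ¬ c.IsB (c.ι (k, 1)) ∧ c.IsB (c.ι (k, z)) := by
  by_cases hk1 : c.IsB (c.ι (k, 1)) <;> by_cases hkz : c.IsB (c.ι (k, z))
  · exact (c.false_of_isB_both hk1 hkz).elim
  · exact (c.false_of_isB_k1 hk1 hkz).elim
  · exact ⟨hk1, hkz⟩
  exfalso
  have hmul : ∀ p : P4, c.ι (k, p) * c.z0 = c.ι (k * z, p * z) := fun p => by rw [← map_mul]; rfl
  have hkz' : k * z ∈ kay ∧ (k * z ≠ 1 ∧ k * z ≠ z) :=
    ⟨kay.mul_mem k_mem_kay z_mem_kay, by decide, by decide⟩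
  by_cases h1 : c.IsA (c.ι (k, 1)) <;> by_cases h2 : c.IsA (c.ι (k, z))
  · exact c.false_of_both_isA h1 h2
  · refine c.false_of_one_isA hk1 hkz (Or.inl rfl) h1 fun h => h2 ?_
    rw [hmul, one_mul] at h
    exact h.trans (c.isConj_kz hkz'.1 hkz'.2)
  · refine c.false_of_one_isA hk1 hkz (Or.inr rfl) h2 fun h => h1 ?_
    rw [hmul, z_mul_z] at h
    exact h.trans (c.isConj_k1 hkz'.1 hkz'.2)
  · exact c.false_of_none hk1 hkz h1 h2

/-- The five conjugates of `z₀` in `K × K`. -/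
def fiveKK : Fin 5 → P4 × P4
  | 0 => (z, z) | 1 => (k, z) | 2 => (z * k, z) | 3 => (z, k) | 4 => (z, z * k)

theorem fiveKK_injective : Function.Injective fiveKK := by decide

theorem fiveKK_mem : ∀ i, (fiveKK i).1 ∈ kay ∧ (fiveKK i).2 ∈ kay := by decide

/-- An element of order three of `C(V₁)` moving `(1,z)` to `(1,k)`. -/
theorem exists_rho : c.IsA (c.ι (k, 1)) ∧ c.IsB (c.ι (k, z)) ∧
    ∃ ρ : G, orderOf ρ = 3 ∧ ρ ∈ centralizer (c.e.box four ⊥ : Set G) ∧
      ρ * c.ι (k, z) * ρ⁻¹ = c.ι (k, z) ∧ ρ * c.ι (1, z) * ρ⁻¹ = c.ι (1, k) ∧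
      ρ * c.ι (1, k) * ρ⁻¹ = c.ι (1, z * k) := by
  obtain ⟨hk1, hkz⟩ := c.pattern
  set f : Fin 5 → G := fun i => c.ι (fiveKK i)
  have hzk : z * k ∈ kay ∧ (z * k ≠ 1 ∧ z * k ≠ z) :=
    ⟨Or.inr (Or.inr (Or.inr rfl)), by decide, by decide⟩
  have hfB : ∀ i, c.IsB (f i) := by
    intro i
    fin_cases i
    exacts [c.isB_z0, hkz, hkz.trans (c.isConj_kz hzk.1 hzk.2).symm, hkz.trans (c.isConj_swap k z),
      hkz.trans (c.isConj_kz' hzk.1 hzk.2).symm]
  have hcases : ∀ g ∈ c.KK, c.IsB g → ∃ i, g = f i := by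
    intro g hg hB
    obtain ⟨a, ha, b, hb, rfl⟩ := c.e.mem_box.1 hg
    have hne : (a, b) ≠ (1 : P4 × P4) := fun e => c.not_isB_one (e ▸ hB)
    rcases eight_cases (p := (a, b)) ha hb hne with h | h | ⟨i, h⟩
    · exact absurd hB (c.not_isB_of_isA (c.Six_isA (p := (a, b)) ha hb h))
    · exact ⟨0, by rw [h]; rfl⟩
    · rw [h] at hB ⊢
      fin_cases i
      · exact absurd hB hk1
      · exact absurd (hB.trans (c.isConj_k1 hzk.1 hzk.2)) hk1
      · exact absurd (hB.trans (c.isConj_swap 1 k)) hk1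
      · exact absurd (hB.trans (c.isConj_k1' hzk.1 hzk.2)) hk1
      · exact ⟨1, rfl⟩
      · exact ⟨2, rfl⟩
      · exact ⟨3, rfl⟩
      · exact ⟨4, rfl⟩
  let N := normalizer (c.KK : Set G)
  have hv : c.ι (v, 1) ∈ N := c.syl_le_normalizer_KK (c.e.mem_syl_iff.2 ⟨v_mem_dih, one_mem _⟩)
  obtain ⟨φ, hφ, hφf⟩ := exists_perm_five N f (c.e.inj.comp fiveKK_injective)
    (fun n hn i => hcases _ ((mem_normalizer_iff.1 hn _).1 (c.e.ι_mem_box.2 (fiveKK_mem i)))
      (c.isB_conj (hfB i) n))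
    (fun j => c.control_KK (p := (z, z)) ⟨z_mem_kay, z_mem_kay⟩ (fiveKK_mem j) (hfB j))
    (c.ι (v, 1)) hv 1 2 (by decide)
    ((c.conj_pair v 1 k z).trans (congrArg c.ι (by decide)))
    ((c.conj_pair v 1 (z * k) z).trans (congrArg c.ι (by decide)))
    (fun l h1 h2 => (c.conj_pair v 1 (fiveKK l).1 (fiveKK l).2).trans (congrArg c.ι (by
      fin_cases l <;> first | decide | exact absurd rfl h1 | exact absurd rfl h2)))
  -- `(k,1)` is conjugate to `z₁`
  have hz1f : c.z1 = f 1 * f 2 :=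
    (congrArg c.ι (by decide : ((z, 1) : P4 × P4) = fiveKK 1 * fiveKK 2)).trans (map_mul c.ι _ _)
  have hk1A : c.IsA (c.ι (k, 1)) := by
    obtain ⟨n, hn⟩ := hφ (Equiv.swap 0 2)
    have h := c.isA_conj c.isA_z1 (n : G)
    rw [hz1f, show (n : G) * (f 1 * f 2) * (n : G)⁻¹ = (n : G) * f 1 * (n : G)⁻¹ * ((n : G) * f 2 * (n : G)⁻¹)
      by group, hφf, hφf, hn] at h
    rw [show f (Equiv.swap (0 : Fin 5) 2 1) * f (Equiv.swap (0 : Fin 5) 2 2) = c.ι (z * k, 1) from
      (map_mul _ _ _).symm.trans (congrArg c.ι (by decide))] at h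
    exact h.trans (c.isConj_k1 hzk.1 hzk.2)
  refine ⟨hk1A, hkz, ?_⟩
  -- the element of order three
  let π : Equiv.Perm (Fin 5) := Equiv.swap 0 3 * Equiv.swap 3 4
  obtain ⟨n, hn⟩ := hφ π
  have hgen : ∀ w : N, (∀ l, φ w l = l) → (w : G) ∈ c.KK := by
    intro w hw
    refine c.centralizer_KK fun x hx => ?_
    have hf' : ∀ l, f l ∈ centralizer ({(w : G)} : Set G) := fun l => by
      have h := hφf w l
      rw [hw, mul_inv_eq_iff_eq_mul] at h
      exact mem_centralizer_singleton_iff.2 h.symm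
    suffices hle : c.KK ≤ centralizer ({(w : G)} : Set G) from
      mem_centralizer_singleton_iff.1 (hle hx)
    intro x hx
    obtain ⟨a, ha, b, hb, rfl⟩ := c.e.mem_box.1 hx
    have h1 : c.ι (z, 1) ∈ centralizer ({(w : G)} : Set G) := by
      rw [show c.ι (z, 1) = f 1 * f 2 from hz1f]; exact mul_mem (hf' 1) (hf' 2)
    have h2 : c.ι (1, z) ∈ centralizer ({(w : G)} : Set G) := by
      have h := mul_mem h1 (hf' 0)
      rw [← map_mul] at h
      convert h using 2; decide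
    have h3 : c.ι (k, 1) ∈ centralizer ({(w : G)} : Set G) := by
      have h := mul_mem (hf' 1) h2
      rw [← map_mul] at h
      convert h using 2; decide
    have h4 : c.ι (1, k) ∈ centralizer ({(w : G)} : Set G) := by
      have h := mul_mem h1 (hf' 3)
      rw [← map_mul] at h
      convert h using 2; decide
    have e : c.ι (a, b) = c.ι (a, 1) * c.ι (1, b) := by rw [← map_mul]; simp
    rw [e]
    refine mul_mem ?_ ?_
    · rcases ha with rfl | rfl | rfl | rfl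
      · rw [Prod.mk_one_one, map_one]; exact one_mem _
      · exact h1
      · exact h3
      · rw [show ((z * k, (1 : P4)) : P4 × P4) = (z, 1) * (k, 1) from Prod.ext rfl (one_mul _).symm,
          map_mul]
        exact mul_mem h1 h3
    · rcases hb with rfl | rfl | rfl | rfl
      · rw [Prod.mk_one_one, map_one]; exact one_mem _
      · exact h2
      · exact h4
      · rw [show (((1 : P4), z * k) : P4 × P4) = (1, z) * (1, k) from Prod.ext (one_mul _).symm rfl,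
          map_mul]
        exact mul_mem h2 h4
  have hπ3 : π ^ 3 = 1 := by decide
  have hn6 : ((n : G) ^ 3) * ((n : G) ^ 3) = 1 := by
    have := hgen (n ^ 3) fun l => by rw [map_pow, hn, hπ3]; rfl
    rw [SubgroupClass.coe_pow] at this
    exact (c.box_isE16 (Or.inr rfl) (Or.inr rfl)).2.2.1 _ this
  set ρ : N := n ^ 4 with hρ
  have hφρ : φ ρ = π := by rw [hρ, map_pow, hn]; decide
  have hρ3 : (ρ : G) ^ 3 = 1 := by
    rw [hρ, SubgroupClass.coe_pow, ← pow_mul, show 4 * 3 = (3 + 3) * 2 by norm_num, pow_mul, pow_add,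
      hn6, one_pow]
  have hρne : (ρ : G) ≠ 1 := fun h => by
    rw [show ρ = 1 from Subtype.ext h, map_one] at hφρ
    exact absurd hφρ (by decide)
  haveI : Fact (Nat.Prime 3) := ⟨Nat.prime_three⟩
  have hρf : ∀ l, (ρ : G) * f l * (ρ : G)⁻¹ = f (π l) := fun l => by rw [hφf, hφρ]
  have hρz1 : (ρ : G) * c.z1 * (ρ : G)⁻¹ = c.z1 := by
    rw [hz1f, show (ρ : G) * (f 1 * f 2) * (ρ : G)⁻¹ = (ρ : G) * f 1 * (ρ : G)⁻¹ * ((ρ : G) * f 2 * (ρ : G)⁻¹)
      by group, hρf, hρf, show π 1 = 1 by decide, show π 2 = 2 by decide]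
  refine ⟨ρ, orderOf_eq_prime hρ3 hρne, ?_, (hρf 1).trans (by rfl), ?_, ?_⟩
  · -- it centralises `V₁`
    set t : N := ⟨c.ι (v, 1), hv⟩
    have hφt : φ t = Equiv.swap 1 2 := by
      refine Equiv.ext fun l => c.e.inj.comp fiveKK_injective ?_
      show f (φ t l) = f (Equiv.swap 1 2 l)
      rw [← hφf]
      refine (c.conj_pair v 1 (fiveKK l).1 (fiveKK l).2).trans (congrArg c.ι ?_)
      fin_cases l <;> decide
    have hw : ((ρ * t * ρ⁻¹ * t⁻¹ : N) : G) ∈ c.KK := hgen _ fun l => by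
      rw [map_mul, map_mul, map_mul, map_inv, map_inv, hφρ, hφt]
      fin_cases l <;> decide
    obtain ⟨p, hp, q, hq, hpq⟩ := c.e.mem_box.1 hw
    have him : (ρ : G) * c.ι (v, 1) * (ρ : G)⁻¹ = c.ι (p * v, q) := by
      have h : c.ι (p, q) * c.ι (v, 1) = (ρ : G) * c.ι (v, 1) * (ρ : G)⁻¹ := by
        rw [hpq]; simp [t]
      rw [← h, ← map_mul, Prod.mk_mul_mk, mul_one]
    have hsq : c.ι (p * v, q) * c.ι (p * v, q) = 1 := by
      rw [← him, show (ρ : G) * c.ι (v, 1) * (ρ : G)⁻¹ * ((ρ : G) * c.ι (v, 1) * (ρ : G)⁻¹) =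
        (ρ : G) * (c.ι (v, 1) * c.ι (v, 1)) * (ρ : G)⁻¹ by group, ← map_mul,
        show ((v, (1 : P4)) : P4 × P4) * (v, 1) = 1 by decide, map_one, mul_one, mul_inv_cancel]
    rw [← map_mul, ← map_one c.ι] at hsq
    have hp' := kay_v_invol p hp (congrArg Prod.fst (c.e.inj hsq))
    have hA : c.IsA (c.ι (p * v, q)) := him ▸ c.isA_conj (c.isA_fst v_mem_four (by decide)) (ρ : G)
    have hpv : p * v ∈ four ∧ p * v ≠ 1 := by
      rcases hp' with rfl | rfl
      · exact ⟨by rw [one_mul]; exact v_mem_four, by decide⟩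
      · exact ⟨four.mul_mem z_mem_four v_mem_four, by decide⟩
    have hq1 : q = 1 := by
      rcases kay_split q hq with rfl | rfl | hq'
      · rfl
      · exact absurd (c.isB_four hpv.1 hpv.2 z_mem_four (by decide)) (c.not_isB_of_isA hA)
      · exfalso
        refine c.not_isB_of_isA hA (hkz.trans ?_)
        exact ((c.isConj_pair (four_conj_z _ hpv.1 hpv.2) (kay_conj_k q hq hq'.1 hq'.2)).trans
          (c.isConj_swap z k)).symm
    subst hq1
    have hρv : (ρ : G) * c.ι (v, 1) * (ρ : G)⁻¹ = c.ι (v, 1) := by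
      rcases hp' with rfl | rfl
      · rw [him, one_mul]
      exfalso
      have e1 : c.ι (z * v, 1) = c.z1 * c.ι (v, 1) := by rw [← map_mul]; simp
      rw [e1] at him
      have hz1sq : c.z1 * c.z1 = 1 := by
        rw [← map_mul, Prod.mk_mul_mk, z_mul_z, one_mul, Prod.mk_one_one, map_one]
      have h2 : (ρ : G) * ((ρ : G) * c.ι (v, 1) * (ρ : G)⁻¹) * (ρ : G)⁻¹ = c.ι (v, 1) := by
        rw [him, show (ρ : G) * (c.z1 * c.ι (v, 1)) * (ρ : G)⁻¹ =
          (ρ : G) * c.z1 * (ρ : G)⁻¹ * ((ρ : G) * c.ι (v, 1) * (ρ : G)⁻¹) by group, hρz1, him,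
          ← mul_assoc, hz1sq, one_mul]
      have h3 : c.ι (v, 1) = c.z1 * c.ι (v, 1) := by
        calc c.ι (v, 1) = (ρ : G) ^ 3 * c.ι (v, 1) * ((ρ : G) ^ 3)⁻¹ := by
              rw [hρ3, one_mul, inv_one, mul_one]
          _ = (ρ : G) * ((ρ : G) * ((ρ : G) * c.ι (v, 1) * (ρ : G)⁻¹) * (ρ : G)⁻¹) * (ρ : G)⁻¹ := by
              simp only [pow_succ, pow_zero, one_mul, mul_inv_rev, mul_assoc]
          _ = c.z1 * c.ι (v, 1) := by rw [h2, him]
      rw [← e1] at h3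
      exact absurd (congrArg Prod.fst (c.e.inj h3)) (by decide)
    intro x hx
    obtain ⟨a, ha, b, hb, rfl⟩ := c.e.mem_box.1 hx
    rw [mem_bot] at hb
    subst hb
    have hmem : c.ι (a, 1) ∈ centralizer ({(ρ : G)} : Set G) := by
      have h1 : c.ι (z, 1) ∈ centralizer ({(ρ : G)} : Set G) :=
        mem_centralizer_singleton_iff.2 (mul_inv_eq_iff_eq_mul.1 hρz1).symm
      have h3 : c.ι (v, 1) ∈ centralizer ({(ρ : G)} : Set G) :=
        mem_centralizer_singleton_iff.2 (mul_inv_eq_iff_eq_mul.1 hρv).symm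
      rcases ha with rfl | rfl | rfl | rfl
      · rw [Prod.mk_one_one, map_one]; exact one_mem _
      · exact h1
      · exact h3
      · rw [show ((z * v, (1 : P4)) : P4 × P4) = (z, 1) * (v, 1) from Prod.ext rfl (one_mul _).symm,
          map_mul]
        exact mul_mem h1 h3
    exact mem_centralizer_singleton_iff.1 hmem
  · have e : c.ι (1, z) = c.z1 * f 0 := by
      rw [← map_mul]; exact congrArg c.ι (by decide)
    rw [e, show (ρ : G) * (c.z1 * f 0) * (ρ : G)⁻¹ = (ρ : G) * c.z1 * (ρ : G)⁻¹ *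
      ((ρ : G) * f 0 * (ρ : G)⁻¹) by group, hρz1, hρf, ← map_mul]
    exact congrArg c.ι (by decide)
  · have e : c.ι (1, k) = c.z1 * f 3 := by
      rw [← map_mul]; exact congrArg c.ι (by decide)
    rw [e, show (ρ : G) * (c.z1 * f 3) * (ρ : G)⁻¹ = (ρ : G) * c.z1 * (ρ : G)⁻¹ *
      ((ρ : G) * f 3 * (ρ : G)⁻¹) by group, hρz1, hρf, ← map_mul]
    exact congrArg c.ι (by decide)

end Ctx

end Cfsg.Agent.S4Wr
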